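import Mathlib
import Cfsg.Prelude.Def_CharExt
import Cfsg.Agent.Lib.Helper3.CharCore
import Cfsg.Agent.Lib.Helper3.CharValues
import Cfsg.Agent.Lib.Helper15.LinChar

set_option autoImplicit false

/-!
# The determinantal character `Cfsg.detChar`

The determinant of a representation is determined by its character (the multiplicity of each
eigenvalue of `ρ g` is recovered from the character values on the powers of `g` by Fourier
inversion), so `Cfsg.detChar ρ.character g = det (ρ g)` for every representation `ρ`.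
-/

namespace Cfsg.Agent.Lib.Helper15

open Module

section eig

variable {V : Type*} [AddCommGroup V] [Module ℂ V]

theorem pow_apply_eigen (A : Module.End ℂ V) (v : V) (c : ℂ) (h : A v = c • v) (k : ℕ) :
    (A ^ k) v = c ^ k • v := by
  induction k with
  | zero => simp
  | succ k ih =>
    rw [pow_succ, Module.End.mul_apply, h, map_smul, ih, smul_smul, pow_succ, mul_comm]

/-- geometric sum of a root of unity -/
theorem geom_root (n : ℕ) (ζ : ℂ) (hζ : ζ ^ n = 1) :
    ∑ k ∈ Finset.range n, ζ ^ k = if ζ = 1 then (n : ℂ) else 0 := by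
  split_ifs with h
  · subst h; simp
  · have := geom_sum_mul ζ n
    rw [hζ, sub_self] at this
    rcases mul_eq_zero.mp this with h1 | h1
    · exact h1
    · exact absurd (sub_eq_zero.mp h1) h

/-- the number of eigenvalues equal to `ω` in terms of the traces of the powers -/
theorem eig_count {ι : Type*} [Fintype ι] (b : Basis ι ℂ V)
    (A : Module.End ℂ V) (d : ι → ℂ) (hd : ∀ i, A (b i) = d i • b i) (n : ℕ) (hn : 0 < n)
    (hdn : ∀ i, d i ^ n = 1) (ω : ℂ) (hω : ω ^ n = 1) [DecidablePred fun i => d i = ω] :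
    ((Finset.univ.filter (fun i => d i = ω)).card : ℂ) =
      (n : ℂ)⁻¹ * ∑ k ∈ Finset.range n, LinearMap.trace ℂ V (A ^ k) * (ω⁻¹) ^ k := by
  classical
  have htr : ∀ k, LinearMap.trace ℂ V (A ^ k) = ∑ i, d i ^ k := fun k =>
    Helper3.trace_eq_sum_of_eigenbasis b (A ^ k) (fun i => d i ^ k)
      (fun i => pow_apply_eigen A (b i) (d i) (hd i) k)
  simp only [htr, Finset.sum_mul]
  rw [Finset.sum_comm]
  have hω0 : ω ≠ 0 := by
    rintro rfl
    rw [zero_pow hn.ne'] at hω
    exact zero_ne_one hω
  have hinner : ∀ i, ∑ k ∈ Finset.range n, d i ^ k * ω⁻¹ ^ k =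
      if d i = ω then (n : ℂ) else 0 := by
    intro i
    have hk : ∀ k, d i ^ k * ω⁻¹ ^ k = (d i * ω⁻¹) ^ k := fun k => (mul_pow _ _ _).symm
    simp only [hk]
    rw [geom_root n (d i * ω⁻¹) (by rw [mul_pow, hdn i, inv_pow, hω]; simp)]
    have hiff : d i * ω⁻¹ = 1 ↔ d i = ω := mul_inv_eq_one₀ hω0
    simp only [hiff]
  have hn0 : (n : ℂ) ≠ 0 := Nat.cast_ne_zero.mpr hn.ne'
  rw [Finset.sum_congr rfl (fun i _ => hinner i), Finset.sum_ite, Finset.sum_const_zero, add_zero,
    Finset.sum_const, nsmul_eq_mul, ← mul_assoc, mul_comm (n : ℂ)⁻¹, mul_assoc,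
    inv_mul_cancel₀ hn0, mul_one]

theorem det_eq_prod_of_eigenbasis {ι : Type*} [Fintype ι] [DecidableEq ι] (b : Basis ι ℂ V)
    (A : Module.End ℂ V) (d : ι → ℂ) (hd : ∀ i, A (b i) = d i • b i) :
    LinearMap.det A = ∏ i, d i := by
  rw [← LinearMap.det_toMatrix b]
  have : LinearMap.toMatrix b b A = Matrix.diagonal d := by
    ext i j
    rw [LinearMap.toMatrix_apply, hd, map_smul, Finsupp.smul_apply, Basis.repr_self_apply,
      Matrix.diagonal_apply]
    by_cases h : i = j
    · subst h; simp
    · simp [h, Ne.symm h]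
  rw [this, Matrix.det_diagonal]

/-- Two endomorphisms of finite order whose powers have equal traces have equal
determinants. -/
theorem det_eq_of_trace_pow_eq {W : Type*} [AddCommGroup W] [Module ℂ W]
    [FiniteDimensional ℂ V] [FiniteDimensional ℂ W] (A : Module.End ℂ V) (B : Module.End ℂ W)
    (n : ℕ) (hn : 0 < n) (hA : A ^ n = 1) (hB : B ^ n = 1)
    (h : ∀ k, LinearMap.trace ℂ V (A ^ k) = LinearMap.trace ℂ W (B ^ k)) :
    LinearMap.det A = LinearMap.det B := by
  classical
  obtain ⟨ι₁, _, b₁, d₁, hd₁n, hd₁⟩ := Helper3.exists_eigenbasis_of_pow_eq_one A n hn hA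
  obtain ⟨ι₂, _, b₂, d₂, hd₂n, hd₂⟩ := Helper3.exists_eigenbasis_of_pow_eq_one B n hn hB
  rw [det_eq_prod_of_eigenbasis b₁ A d₁ hd₁, det_eq_prod_of_eigenbasis b₂ B d₂ hd₂]
  have hmem : ∀ x : ℂ, x ∈ Polynomial.nthRootsFinset n (1 : ℂ) ↔ x ^ n = 1 :=
    fun x => Polynomial.mem_nthRootsFinset hn 1
  rw [← Finset.prod_fiberwise_of_maps_to (s := Finset.univ)
      (t := Polynomial.nthRootsFinset n (1 : ℂ)) (g := d₁)
      (fun i _ => (hmem _).mpr (hd₁n i)) d₁,
    ← Finset.prod_fiberwise_of_maps_to (s := Finset.univ)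
      (t := Polynomial.nthRootsFinset n (1 : ℂ)) (g := d₂)
      (fun i _ => (hmem _).mpr (hd₂n i)) d₂]
  refine Finset.prod_congr rfl fun ω hω => ?_
  have hω' := (hmem ω).mp hω
  have h1 : ∏ i ∈ Finset.univ.filter (fun i => d₁ i = ω), d₁ i =
      ω ^ (Finset.univ.filter (fun i => d₁ i = ω)).card := by
    rw [Finset.prod_congr rfl (fun i hi => (Finset.mem_filter.mp hi).2), Finset.prod_const]
  have h2 : ∏ i ∈ Finset.univ.filter (fun i => d₂ i = ω), d₂ i =
      ω ^ (Finset.univ.filter (fun i => d₂ i = ω)).card := by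
    rw [Finset.prod_congr rfl (fun i hi => (Finset.mem_filter.mp hi).2), Finset.prod_const]
  rw [h1, h2]
  congr 1
  have c1 := eig_count b₁ A d₁ hd₁ n hn hd₁n ω hω'
  have c2 := eig_count b₂ B d₂ hd₂ n hn hd₂n ω hω'
  simp only [h] at c1
  exact Nat.cast_injective (R := ℂ) (c1.trans c2.symm)

end eig

section det

variable {G : Type*} [Group G] [Finite G]

/-- The determinant of a representation is determined by its character. -/
theorem det_eq_of_character_eq {V W : Type*} [AddCommGroup V] [Module ℂ V]
    [FiniteDimensional ℂ V] [AddCommGroup W] [Module ℂ W] [FiniteDimensional ℂ W]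
    (ρ : Representation ℂ G V) (σ : Representation ℂ G W) (h : ρ.character = σ.character)
    (g : G) : LinearMap.det (ρ g) = LinearMap.det (σ g) := by
  apply det_eq_of_trace_pow_eq (ρ g) (σ g) (orderOf g) (orderOf_pos g)
  · rw [← map_pow, pow_orderOf_eq_one, map_one]
  · rw [← map_pow, pow_orderOf_eq_one, map_one]
  · intro k
    rw [← map_pow, ← map_pow]
    exact congrFun h (g ^ k)

/-- `Cfsg.detChar` computed from any representation affording the character. -/
theorem detChar_character {V : Type*} [AddCommGroup V] [Module ℂ V] [FiniteDimensional ℂ V]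
    (ρ : Representation ℂ G V) (g : G) :
    Cfsg.detChar ρ.character g = LinearMap.det (ρ g) := by
  have h : Cfsg.IsCharacter G ρ.character := Helper3.isCharacter_character ρ
  unfold Cfsg.detChar
  rw [dif_pos h]
  exact det_eq_of_character_eq _ ρ (Classical.choose_spec (Classical.choose_spec h)) g

omit [Finite G] in
theorem detChar_not_character {χ : G → ℂ} (h : ¬ Cfsg.IsCharacter G χ) (g : G) :
    Cfsg.detChar χ g = 1 := by
  unfold Cfsg.detChar
  rw [dif_neg h]

theorem detChar_mul (χ : G → ℂ) (a b : G) :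
    Cfsg.detChar χ (a * b) = Cfsg.detChar χ a * Cfsg.detChar χ b := by
  by_cases h : Cfsg.IsCharacter G χ
  · obtain ⟨n, ρ, rfl⟩ := h
    rw [detChar_character, detChar_character, detChar_character, map_mul, map_mul]
  · rw [detChar_not_character h, detChar_not_character h, detChar_not_character h, one_mul]

theorem detChar_one (χ : G → ℂ) : Cfsg.detChar χ 1 = 1 := by
  by_cases h : Cfsg.IsCharacter G χ
  · obtain ⟨n, ρ, rfl⟩ := h
    rw [detChar_character, map_one, map_one]
  · rw [detChar_not_character h]

/-- The determinantal character as a homomorphism into `ℂˣ`. -/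
noncomputable def detCharHom (χ : G → ℂ) : G →* ℂˣ :=
  MonoidHom.toHomUnits
    { toFun := Cfsg.detChar χ
      map_one' := detChar_one χ
      map_mul' := detChar_mul χ }

@[simp] theorem detCharHom_apply (χ : G → ℂ) (g : G) :
    ((detCharHom χ g : ℂˣ) : ℂ) = Cfsg.detChar χ g := rfl

/-- The determinantal character is a character of degree one. -/
theorem isCharacter_detChar (χ : G → ℂ) : Cfsg.IsCharacter G (Cfsg.detChar χ) :=
  isCharacter_of_hom (detCharHom χ)

theorem detChar_ne_zero (χ : G → ℂ) (g : G) : Cfsg.detChar χ g ≠ 0 := by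
  rw [← detCharHom_apply]; exact Units.ne_zero _

/-- The determinantal character of a pulled-back character. -/
theorem detChar_comp {H : Type*} [Group H] [Finite H] (f : H →* G) {χ : G → ℂ}
    (hχ : Cfsg.IsCharacter G χ) :
    Cfsg.detChar (fun h => χ (f h)) = fun h => Cfsg.detChar χ (f h) := by
  obtain ⟨n, ρ, rfl⟩ := hχ
  funext h
  have e : (fun h => ρ.character (f h)) =
      Representation.character (ρ.comp f : Representation ℂ H (Fin n → ℂ)) := rfl
  rw [e, detChar_character, detChar_character]
  rfl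

/-- The determinantal character of a restriction. -/
theorem detChar_res (H : Subgroup G) {χ : G → ℂ} (hχ : Cfsg.IsCharacter G χ) :
    Cfsg.detChar (fun h : H => χ h) = fun h : H => Cfsg.detChar χ h :=
  detChar_comp H.subtype hχ

theorem det_end_fin_one (f : (Fin 1 → ℂ) →ₗ[ℂ] (Fin 1 → ℂ)) :
    LinearMap.det f = f (fun _ => 1) 0 := by
  rw [← LinearMap.det_toMatrix (Pi.basisFun ℂ (Fin 1)) f, Matrix.det_fin_one,
    LinearMap.toMatrix_apply]
  simp only [Pi.basisFun_apply, Pi.basisFun_repr]
  have e : (Pi.single 0 1 : Fin 1 → ℂ) = fun _ => 1 := by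
    funext i
    fin_cases i
    simp
  rw [e]

/-- The determinantal character of a character of degree one is itself. -/
theorem detChar_of_lin {β : G → ℂ} (hβ : Cfsg.IsCharacter G β) (h1 : β 1 = 1) :
    Cfsg.detChar β = β := by
  obtain ⟨n, ρ, rfl⟩ := hβ
  have hn : n = 1 := by
    rw [Representation.char_one] at h1
    simpa using h1
  subst hn
  funext g
  rw [detChar_character, det_end_fin_one]
  simp only [Representation.character, trace_end_fin_one]

/-- The determinantal character of the product of a character with a character of degree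
one. -/
theorem detChar_lin_mul {β χ : G → ℂ} (hβ : Cfsg.IsCharacter G β) (h1 : β 1 = 1)
    (hχ : Cfsg.IsCharacter G χ) (d : ℕ) (hd : χ 1 = d) :
    Cfsg.detChar (β * χ) = fun g => β g ^ d * Cfsg.detChar χ g := by
  obtain ⟨n, ρ, rfl⟩ := hχ
  have hn : n = d := by
    rw [Representation.char_one] at hd
    simpa using hd
  subst hn
  let τ : Representation ℂ G (Fin n → ℂ) :=
    { toFun := fun g => β g • ρ g
      map_one' := by rw [h1, map_one, one_smul]
      map_mul' := fun a b => by
        rw [linChar_mul hβ h1, map_mul, smul_mul_smul_comm] }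
  have hτ : τ.character = β * ρ.character := by
    funext g
    simp only [Representation.character, Pi.mul_apply]
    show LinearMap.trace ℂ _ (β g • ρ g) = _
    rw [map_smul, smul_eq_mul]
  funext g
  rw [← hτ, detChar_character, detChar_character]
  show LinearMap.det (β g • ρ g) = _
  rw [LinearMap.det_smul, Module.finrank_fin_fun]

end det

end Cfsg.Agent.Lib.Helper15
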