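import Mathlib
import Cfsg.Prelude.Def_Characters
import Cfsg.Agent.Lib.Helper15.LinChar
import Cfsg.Agent.Lib.Helper3.CharValues
import Cfsg.Agent.Lib.Helper80.CharOps
import Cfsg.Agent.Lib.Helper80.CharKer

set_option autoImplicit false
open scoped ComplexConjugate

/-!
Products of irreducible characters with characters of degree one.
-/

namespace Cfsg.Agent.Lib.Helper15

/-- a character of degree one of a finite group has values of absolute value one -/
theorem linChar_mul_conj {G : Type*} [Group G] [Finite G] {β : G → ℂ}
    (hβ : Cfsg.IsCharacter G β) (h1 : β 1 = 1) (g : G) : β g * conj (β g) = 1 := by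
  have hfin : (linCharHom hβ h1 g) ^ (orderOf g) = 1 := by
    rw [← map_pow, pow_orderOf_eq_one, map_one]
  have h2 : (β g) ^ (orderOf g) = 1 := by
    have h3 := congrArg (fun u : ℂˣ => (u : ℂ)) hfin
    simpa [linCharHom_apply] using h3
  have hpos : orderOf g ≠ 0 := (orderOf_pos g).ne'
  have hn1 : ‖β g‖ = 1 := Complex.norm_eq_one_of_pow_eq_one h2 hpos
  rw [Complex.mul_conj, Complex.normSq_eq_norm_sq, hn1]
  norm_num

/-- the product of an irreducible character with a character of degree one is irreducible -/
theorem isIrrCharacter_lin_mul {G : Type*} [Group G] [Finite G] {β χ : G → ℂ}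
    (hβ : Cfsg.IsCharacter G β) (h1 : β 1 = 1) (hχ : Cfsg.IsIrrCharacter G χ) :
    Cfsg.IsIrrCharacter G (β * χ) := by
  classical
  have := Fintype.ofFinite G
  have : Fintype (Cfsg.IrrCharacter G) := Fintype.ofFinite _
  have hχc := Helper80.isCharacter_of_isIrrCharacter hχ
  apply Helper80.isIrrCharacter_of_classInner_eq_one (Helper80.isCharacter_mul hβ hχc)
  have h := Helper3.classInner_irr_self hχ
  unfold Cfsg.classInner at h ⊢
  rw [← h]
  congr 1
  refine Finset.sum_congr rfl fun g _ => ?_
  simp only [Pi.mul_apply, map_mul]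
  have := linChar_mul_conj hβ h1 g
  linear_combination (χ g * conj (χ g)) * this

end Cfsg.Agent.Lib.Helper15
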