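import Mathlib
import Cfsg.Prelude.Def_CharExt
import Cfsg.Agent.S0862
import Cfsg.Agent.Lib.Helper15.DetChar
import Cfsg.Agent.Lib.Helper80.CharOps
import Cfsg.Agent.Lib.Helper80.CharKer

set_option autoImplicit false

/-!
# Extending invariant characters with determinant conditions

Conditional on the extension theorem for cyclic quotients (`CyclicExt`, the statement of S0886),
an invariant irreducible character `ϑ` of `N ⊴ G` with `G ⧸ N` solvable and `ϑ 1` coprime to
`[G : N]` extends to `G` as soon as its determinantal character extends.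
-/

universe u

namespace Cfsg.Agent.Lib.Helper15

open Cfsg.Agent.Lib

/-- hypothesis: extension over cyclic quotients (the statement S0886) -/
def CyclicExt : Prop :=
  ∀ (G : Type u) [Group G] [Finite G] (N : Subgroup G) [hN : N.Normal], IsCyclic (G ⧸ N) →
    ∀ (ϑ : N → ℂ), Cfsg.IsIrrCharacter N ϑ →
      (∀ (g : G) (n : N), ϑ ⟨g * n * g⁻¹, hN.conj_mem (n : G) n.2 g⟩ = ϑ n) →
      ∃ χ : G → ℂ, Cfsg.IsIrrCharacter G χ ∧ ∀ n : N, χ n = ϑ n

/-- a finite group whose abelianization has order divisible by `p` has a normal subgroup of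
index `p` -/
theorem exists_normal_index_prime (Q : Type*) [Group Q] [Finite Q] (p : ℕ) (hp : p.Prime)
    (hdvd : p ∣ (commutator Q).index) : ∃ K : Subgroup Q, K.Normal ∧ K.index = p := by
  have : Fact p.Prime := ⟨hp⟩
  have hA : p ∣ Nat.card (Abelianization Q) := by
    have : Nat.card (Abelianization Q) = (commutator Q).index := by
      rw [Subgroup.index_eq_card]; rfl
    rw [this]; exact hdvd
  obtain ⟨y, hy⟩ := exists_prime_orderOf_dvd_card' p hA
  have hnotinj : ¬ Function.Injective (powMonoidHom p : Abelianization Q →* Abelianization Q) := by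
    intro hinj
    have h1 : (powMonoidHom p : Abelianization Q →* Abelianization Q) y =
        (powMonoidHom p : Abelianization Q →* Abelianization Q) 1 := by
      simp only [powMonoidHom_apply, one_pow]
      rw [← hy, pow_orderOf_eq_one]
    have h2 := hinj h1
    rw [h2, orderOf_one] at hy
    exact hp.one_lt.ne hy
  have hnotsurj : ¬ Function.Surjective
      (powMonoidHom p : Abelianization Q →* Abelianization Q) :=
    fun hs => hnotinj (Finite.injective_iff_surjective.mpr hs)
  set R : Subgroup (Abelianization Q) :=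
    (powMonoidHom p : Abelianization Q →* Abelianization Q).range with hR
  have hRtop : R ≠ ⊤ := fun h => hnotsurj (MonoidHom.range_eq_top.mp h)
  have hpg : IsPGroup p (Abelianization Q ⧸ R) := by
    intro x
    induction x using QuotientGroup.induction_on with
    | H x =>
      refine ⟨1, ?_⟩
      rw [pow_one, ← QuotientGroup.mk_pow, QuotientGroup.eq_one_iff]
      exact ⟨x, rfl⟩
  obtain ⟨k, hk⟩ := IsPGroup.iff_card.mp hpg
  have hk0 : k ≠ 0 := by
    rintro rfl
    rw [pow_zero, ← Subgroup.index_eq_card, Subgroup.index_eq_one] at hk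
    exact hRtop hk
  obtain ⟨K, hK⟩ := Sylow.exists_subgroup_card_pow_prime p (G := Abelianization Q ⧸ R)
    (n := k - 1) (by rw [hk]; exact pow_dvd_pow p (Nat.sub_le k 1))
  have hKidx : K.index = p := by
    have h1 := Subgroup.card_mul_index K
    rw [hK, hk] at h1
    have h2 : p ^ k = p ^ (k - 1) * p := by
      rw [← pow_succ]; congr 1; omega
    rw [h2] at h1
    exact Nat.eq_of_mul_eq_mul_left (pow_pos hp.pos _) h1
  let π : Q →* Abelianization Q ⧸ R := (QuotientGroup.mk' R).comp Abelianization.of
  have hπ : Function.Surjective π := by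
    intro x
    induction x using QuotientGroup.induction_on with
    | H x =>
      induction x using QuotientGroup.induction_on with
      | H x => exact ⟨x, rfl⟩
  have hKn : K.Normal := Subgroup.normal_of_isMulCommutative K
  refine ⟨K.comap π, hKn.comap π, ?_⟩
  rw [Subgroup.index_comap_of_surjective K hπ, hKidx]

section transport

variable {G : Type u} [Group G] (N : Subgroup G) [hN : N.Normal] (T : Subgroup G)
  (hNT : N ≤ T)

/-- the function on `N.subgroupOf T` corresponding to a function on `N` -/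
def resT (ϑ : N → ℂ) : N.subgroupOf T → ℂ :=
  fun n' => ϑ (Subgroup.subgroupOfEquivOfLe hNT n')

omit hN in
theorem resT_irr {ϑ : N → ℂ} (hϑ : Cfsg.IsIrrCharacter N ϑ) :
    Cfsg.IsIrrCharacter (N.subgroupOf T) (resT N T hNT ϑ) :=
  Helper80.isIrrCharacter_comp_mulEquiv (Subgroup.subgroupOfEquivOfLe hNT) hϑ

omit hN in
theorem resT_one (ϑ : N → ℂ) : resT N T hNT ϑ 1 = ϑ 1 := by
  simp [resT]

omit hN in
theorem resT_mk (ϑ : N → ℂ) (n : N) (h : (⟨n, hNT n.2⟩ : T) ∈ N.subgroupOf T) :
    resT N T hNT ϑ ⟨⟨n, hNT n.2⟩, h⟩ = ϑ n := by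
  unfold resT
  congr 1

theorem resT_inv {ϑ : N → ℂ}
    (hinv : ∀ (g : G) (n : N), ϑ ⟨g * n * g⁻¹, hN.conj_mem (n : G) n.2 g⟩ = ϑ n) (t : T)
    (n' : N.subgroupOf T) (h : t * (n' : T) * t⁻¹ ∈ N.subgroupOf T) :
    resT N T hNT ϑ ⟨t * n' * t⁻¹, h⟩ = resT N T hNT ϑ n' := by
  unfold resT
  have := hinv (t : G) (Subgroup.subgroupOfEquivOfLe hNT n')
  rw [← this]
  congr 1

omit hN in
theorem resT_det [Finite G] {ϑ : N → ℂ} (hϑ : Cfsg.IsCharacter N ϑ) (n' : N.subgroupOf T) :
    Cfsg.detChar (resT N T hNT ϑ) n' =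
      Cfsg.detChar ϑ (Subgroup.subgroupOfEquivOfLe hNT n') :=
  congrFun (detChar_comp (Subgroup.subgroupOfEquivOfLe hNT).toMonoidHom hϑ) n'

end transport

/-- Conditional form of the solvable extension theorem (Isaacs 6.25). -/
theorem ext_of_det_solvable (H : CyclicExt.{u}) :
    ∀ (k : ℕ) (G : Type u) [Group G] [Finite G] (N : Subgroup G) [hN : N.Normal],
      N.index = k → Group.IsSolvable (G ⧸ N) → ∀ (ϑ : N → ℂ), Cfsg.IsIrrCharacter N ϑ →
      (∀ (g : G) (n : N), ϑ ⟨g * n * g⁻¹, hN.conj_mem (n : G) n.2 g⟩ = ϑ n) →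
      ∀ d : ℕ, ϑ 1 = d → Nat.Coprime N.index d →
      ∀ μ : G → ℂ, Cfsg.IsCharacter G μ → μ 1 = 1 → (∀ n : N, μ n = Cfsg.detChar ϑ n) →
      ∃ χ : G → ℂ, Cfsg.IsIrrCharacter G χ ∧ ∀ n : N, χ n = ϑ n := by
  intro k
  induction k using Nat.strong_induction_on with
  | _ k ih =>
    intro G _ _ N hN hk hsolv ϑ hϑ hinv d hd hcop μ hμ hμ1 hμN
    by_cases hcyc : IsCyclic (G ⧸ N)
    · exact H G N hcyc ϑ hϑ hinv
    -- the quotient is nontrivial
    have hnt : Nontrivial (G ⧸ N) := by
      by_contra hnt
      rw [not_nontrivial_iff_subsingleton] at hnt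
      exact hcyc inferInstance
    have hlt := Group.IsSolvable.commutator_lt_top_of_nontrivial (G ⧸ N)
    have hidx1 : (commutator (G ⧸ N)).index ≠ 1 := by
      intro h
      exact hlt.ne (Subgroup.index_eq_one.mp h)
    obtain ⟨p, hp, hpdvd⟩ := Nat.exists_prime_and_dvd hidx1
    obtain ⟨K, hKn, hKidx⟩ := exists_normal_index_prime (G ⧸ N) p hp hpdvd
    set M : Subgroup G := K.comap (QuotientGroup.mk' N) with hM
    have hMn : M.Normal := hKn.comap _
    have hMidx : M.index = p := by
      rw [hM, Subgroup.index_comap_of_surjective K (QuotientGroup.mk'_surjective N), hKidx]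
    have hNM : N ≤ M := by
      intro n hn
      rw [hM, Subgroup.mem_comap]
      have : QuotientGroup.mk' N n = 1 := (QuotientGroup.eq_one_iff n).mpr hn
      rw [this]; exact K.one_mem
    -- data on M
    have hidx := Subgroup.relIndex_mul_index hNM
    have hidx' : (N.subgroupOf M).index * p = N.index := by rw [← hMidx]; exact hidx
    have hN0 : N.index ≠ 0 := Subgroup.index_ne_zero_of_finite
    have hlt' : (N.subgroupOf M).index < k := by
      rw [← hk, ← hidx']
      have hpos : 0 < (N.subgroupOf M).index := by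
        rcases Nat.eq_zero_or_pos (N.subgroupOf M).index with h | h
        · rw [h, zero_mul] at hidx'; exact absurd hidx'.symm hN0
        · exact h
      exact lt_mul_of_one_lt_right hpos hp.one_lt
    have hsolvM : Group.IsSolvable (M ⧸ N.subgroupOf M) := by
      let f : M ⧸ N.subgroupOf M →* G ⧸ N :=
        QuotientGroup.map (N.subgroupOf M) N M.subtype (le_refl _)
      have hf : Function.Injective f := by
        rw [injective_iff_map_eq_one]
        intro x hx
        induction x using QuotientGroup.induction_on with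
        | H x =>
          rw [QuotientGroup.eq_one_iff]
          have : f (QuotientGroup.mk x) = QuotientGroup.mk (x : G) := rfl
          rw [this, QuotientGroup.eq_one_iff] at hx
          exact hx
      exact Group.isSolvable_of_isSolvable_injective hf
    have hϑc : Cfsg.IsCharacter N ϑ := Helper80.isCharacter_of_isIrrCharacter hϑ
    have hcopM : Nat.Coprime (N.subgroupOf M).index d :=
      Nat.Coprime.coprime_dvd_left (Dvd.intro _ hidx') hcop
    have hμM : Cfsg.IsCharacter M (fun m : M => μ m) := Helper80.isCharacter_restrict M hμ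
    have hμMN : ∀ n' : N.subgroupOf M, (fun m : M => μ m) n' =
        Cfsg.detChar (resT N M hNM ϑ) n' := by
      intro n'
      rw [resT_det N M hNM hϑc n']
      exact hμN (Subgroup.subgroupOfEquivOfLe hNM n')
    obtain ⟨φ₀, hφ₀, hφ₀N⟩ := ih (N.subgroupOf M).index hlt' M (N.subgroupOf M) rfl hsolvM
      (resT N M hNM ϑ) (resT_irr N M hNM hϑ)
      (fun t n' => resT_inv N M hNM hinv t n' _) d ((resT_one N M hNM ϑ).trans hd) hcopM
      (fun m : M => μ m) hμM hμ1 hμMN
    -- the unique extension with the right determinant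
    obtain ⟨φ, ⟨hφ, hφN, hφdet⟩, hφuniq⟩ := Cfsg.Agent.S0862.result (N.subgroupOf M)
      (resT N M hNM ϑ) (resT_irr N M hNM hϑ) d ((resT_one N M hNM ϑ).trans hd) hcopM
      ⟨φ₀, hφ₀, hφ₀N⟩ (fun m : M => μ m) ⟨hμM, hμ1⟩ hμMN
    -- invariance of φ
    have hμcf : ∀ g x : G, μ (g * x * g⁻¹) = μ x := fun g x => Helper80.char_conj_eq hμ x g
    have hφinv : ∀ (g : G) (m : M), φ ⟨g * m * g⁻¹, hMn.conj_mem (m : G) m.2 g⟩ = φ m := by
      intro g m
      have hc : (fun m : M => φ (MulAut.conjNormal g m)) = φ := by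
        apply hφuniq
        refine ⟨Helper80.isIrrCharacter_comp_mulEquiv (MulAut.conjNormal g : M ≃* M) hφ, ?_, ?_⟩
        · intro n'
          have hmem : (MulAut.conjNormal g (n' : M) : M) ∈ N.subgroupOf M := by
            rw [Subgroup.mem_subgroupOf]
            have := hN.conj_mem ((n' : M) : G) (Subgroup.mem_subgroupOf.mp n'.2) g
            simpa using this
          have h1 := hφN ⟨MulAut.conjNormal g (n' : M), hmem⟩
          simp only at h1
          rw [h1]
          unfold resT
          rw [← hinv g (Subgroup.subgroupOfEquivOfLe hNM n')]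
          congr 1
        · have hφc : Cfsg.IsCharacter M φ := Helper80.isCharacter_of_isIrrCharacter hφ
          have hdc := detChar_comp (MulAut.conjNormal g : M ≃* M).toMonoidHom hφc
          rw [show (fun m : M => φ (MulAut.conjNormal g m)) =
            fun h : M => φ ((MulAut.conjNormal g : M ≃* M).toMonoidHom h) from rfl, hdc, hφdet]
          funext m
          show μ ((MulAut.conjNormal g m : M) : G) = μ m
          rw [MulAut.conjNormal_apply]
          exact hμcf g m
      have := congrFun hc m
      rw [← this]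
      congr 1
    have hcycM : IsCyclic (G ⧸ M) := by
      have : Fact p.Prime := ⟨hp⟩
      apply isCyclic_of_prime_card (p := p)
      rw [← Subgroup.index_eq_card, hMidx]
    obtain ⟨χ, hχ, hχM⟩ := H G M hcycM φ hφ hφinv
    refine ⟨χ, hχ, ?_⟩
    intro n
    have h1 := hχM ⟨n, hNM n.2⟩
    simp only at h1
    rw [h1]
    have hmem : (⟨n, hNM n.2⟩ : M) ∈ N.subgroupOf M := by
      rw [Subgroup.mem_subgroupOf]; exact n.2
    have h2 := hφN ⟨⟨n, hNM n.2⟩, hmem⟩
    simp only at h2
    rw [h2, resT_mk]

end Cfsg.Agent.Lib.Helper15
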