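import Mathlib

set_option autoImplicit false

/-!
The transfer `G →* A` of a homomorphism `ϕ : H →* A` evaluated on a normal subgroup `N ≤ H`
on which `ϕ` is invariant under `G`-conjugation: it is the `[G:H]`-th power of `ϕ`.
-/

namespace Cfsg.Agent.Lib.Helper15

open MulAction Subgroup

theorem transfer_of_invariant {G : Type*} [Group G] {H N : Subgroup G} [H.FiniteIndex]
    [hN : N.Normal] (hNH : N ≤ H) {A : Type*} [CommGroup A] (ϕ : H →* A)
    (hinv : ∀ (g : G) (n : G) (hn : n ∈ N),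
      ϕ ⟨g * n * g⁻¹, hNH (hN.conj_mem n hn g)⟩ = ϕ ⟨n, hNH hn⟩)
    (n : G) (hn : n ∈ N) : MonoidHom.transfer ϕ n = ϕ ⟨n, hNH hn⟩ ^ H.index := by
  classical
  haveI : Fintype (Quotient (orbitRel (zpowers n) (G ⧸ H))) := Fintype.ofFinite _
  rw [MonoidHom.transfer_eq_prod_quotient_orbitRel_zpowers_quot, index_eq_sum_minimalPeriod H n,
    ← Finset.prod_pow_eq_pow_sum]
  apply Finset.prod_congr rfl
  intro q _
  have h1 := hinv q.out.out⁻¹ (n ^ Function.minimalPeriod (n • ·) q.out)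
    (N.pow_mem hn _)
  have e1 : (⟨q.out.out⁻¹ * n ^ Function.minimalPeriod (n • ·) q.out * q.out.out,
      QuotientGroup.out_conj_pow_minimalPeriod_mem H n q.out⟩ : H) =
      ⟨q.out.out⁻¹ * n ^ Function.minimalPeriod (n • ·) q.out * q.out.out⁻¹⁻¹,
        hNH (hN.conj_mem _ (N.pow_mem hn _) _)⟩ := by
    apply Subtype.ext
    simp
  rw [e1, h1, ← map_pow]
  rfl

/-- all values of the transfer are killed by any exponent killing all values of `ϕ`. -/
theorem transfer_pow_eq_one {G : Type*} [Group G] {H : Subgroup G} [H.FiniteIndex]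
    {A : Type*} [CommGroup A] (ϕ : H →* A) (r : ℕ) (hr : ∀ h : H, ϕ h ^ r = 1) (g : G) :
    MonoidHom.transfer ϕ g ^ r = 1 := by
  classical
  haveI : Fintype (Quotient (orbitRel (zpowers g) (G ⧸ H))) := Fintype.ofFinite _
  rw [MonoidHom.transfer_eq_prod_quotient_orbitRel_zpowers_quot, ← Finset.prod_pow]
  exact Finset.prod_eq_one (fun q _ => hr _)

end Cfsg.Agent.Lib.Helper15
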