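import Mathlib
import Cfsg.Prelude.Def_CharExt
import Cfsg.Agent.S0862
import Cfsg.Agent.S0865
import Cfsg.Agent.S0888
import Cfsg.Agent.Lib.Helper15.DetChar
import Cfsg.Agent.Lib.Helper15.ExtDet

set_option autoImplicit false

/-!
# Gallagher's extension theorems with determinants, conditional on `CyclicExt` (S0886)
-/

universe u

namespace Cfsg.Agent.Lib.Helper15

open Cfsg.Agent.Lib

/-- the easy direction: an extension gives an extension of the determinantal character -/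
theorem det_ext_of_ext {G : Type u} [Group G] [Finite G] (N : Subgroup G) (ϑ : N → ℂ)
    (h : ∃ χ : G → ℂ, Cfsg.IsIrrCharacter G χ ∧ (∀ n : N, χ n = ϑ n)) :
    ∃ μ : G → ℂ, Cfsg.IsCharacter G μ ∧ μ 1 = 1 ∧ ∀ n : N, μ n = Cfsg.detChar ϑ n := by
  obtain ⟨χ, hχ, hχN⟩ := h
  have hχc : Cfsg.IsCharacter G χ := Helper80.isCharacter_of_isIrrCharacter hχ
  refine ⟨Cfsg.detChar χ, isCharacter_detChar χ, detChar_one χ, ?_⟩
  intro n
  have := congrFun (detChar_res N hχc) n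
  have hres : (fun n : N => χ n) = ϑ := funext hχN
  rw [hres] at this
  exact this.symm

/-- S0863, conditional on S0886 -/
theorem ext_iff_det_solvable (H : CyclicExt.{u}) {G : Type u} [Group G] [Finite G]
    (N : Subgroup G) [hN : N.Normal] (hsolv : Group.IsSolvable (G ⧸ N)) (ϑ : N → ℂ)
    (hϑ : Cfsg.IsIrrCharacter N ϑ)
    (hinv : ∀ (g : G) (n : N), ϑ ⟨g * n * g⁻¹, hN.conj_mem (n : G) n.2 g⟩ = ϑ n) (d : ℕ)
    (hd : ϑ 1 = d) (hcop : Nat.Coprime N.index d) :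
    (∃ χ : G → ℂ, Cfsg.IsIrrCharacter G χ ∧ (∀ n : N, χ n = ϑ n)) ↔
      ∃ μ : G → ℂ, Cfsg.IsCharacter G μ ∧ μ 1 = 1 ∧ ∀ n : N, μ n = Cfsg.detChar ϑ n := by
  constructor
  · exact det_ext_of_ext N ϑ
  · rintro ⟨μ, hμ, hμ1, hμN⟩
    exact ext_of_det_solvable H N.index G N rfl hsolv ϑ hϑ hinv d hd hcop μ hμ hμ1 hμN

/-- S0866, conditional on S0886 -/
theorem ext_iff_det (H : CyclicExt.{u}) {G : Type u} [Group G] [Finite G]
    (N : Subgroup G) [hN : N.Normal] (ϑ : N → ℂ)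
    (hϑ : Cfsg.IsIrrCharacter N ϑ)
    (hinv : ∀ (g : G) (n : N), ϑ ⟨g * n * g⁻¹, hN.conj_mem (n : G) n.2 g⟩ = ϑ n) (d : ℕ)
    (hd : ϑ 1 = d) (hcop : Nat.Coprime N.index d) :
    (∃ χ : G → ℂ, Cfsg.IsIrrCharacter G χ ∧ (∀ n : N, χ n = ϑ n)) ↔
      ∃ μ : G → ℂ, Cfsg.IsCharacter G μ ∧ μ 1 = 1 ∧ ∀ n : N, μ n = Cfsg.detChar ϑ n := by
  constructor
  · exact det_ext_of_ext N ϑ
  · rintro ⟨μ, hμ, hμ1, hμN⟩
    have hϑc : Cfsg.IsCharacter N ϑ := Helper80.isCharacter_of_isIrrCharacter hϑ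
    apply Cfsg.Agent.S0888.result N ϑ hϑ hinv
    intro p hp
    have : Fact p.Prime := ⟨hp⟩
    obtain ⟨S⟩ := (inferInstance : Nonempty (Sylow p (G ⧸ N)))
    set P : Subgroup G := (S : Subgroup (G ⧸ N)).comap (QuotientGroup.mk' N) with hP
    have hNP : N ≤ P := by
      intro n hn
      rw [hP, Subgroup.mem_comap]
      have : QuotientGroup.mk' N n = 1 := (QuotientGroup.eq_one_iff n).mpr hn
      rw [this]; exact Subgroup.one_mem _
    have hPidx : P.index = (S : Subgroup (G ⧸ N)).index := by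
      rw [hP, Subgroup.index_comap_of_surjective _ (QuotientGroup.mk'_surjective N)]
    have hcopP : Nat.Coprime P.index p := by
      rw [hPidx, Nat.coprime_comm]
      exact (Nat.Prime.coprime_iff_not_dvd hp).mpr S.not_dvd_index
    obtain ⟨k, hk⟩ := IsPGroup.iff_card.mp S.isPGroup'
    have hrel : N.relIndex P = p ^ k := by
      have h1 := Subgroup.relIndex_mul_index hNP
      have h2 := Subgroup.card_mul_index (S : Subgroup (G ⧸ N))
      rw [← Subgroup.index_eq_card N, ← hPidx, hk] at h2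
      have hpos : 0 < P.index := Nat.pos_of_ne_zero Subgroup.index_ne_zero_of_finite
      exact Nat.eq_of_mul_eq_mul_right hpos (h1.trans h2.symm)
    -- the quotient P / N is a p-group, hence solvable
    have hcardQ : Nat.card (P ⧸ N.subgroupOf P) = p ^ k := by
      rw [← Subgroup.index_eq_card]; exact hrel
    have hsolvP : Group.IsSolvable (P ⧸ N.subgroupOf P) := by
      have hpg : IsPGroup p (P ⧸ N.subgroupOf P) := IsPGroup.of_card hcardQ
      have := hpg.isNilpotent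
      infer_instance
    have hidx := Subgroup.relIndex_mul_index hNP
    have hcopP' : Nat.Coprime (N.subgroupOf P).index d :=
      Nat.Coprime.coprime_dvd_left (Dvd.intro _ hidx) hcop
    have hμP : Cfsg.IsCharacter P (fun m : P => μ m) := Helper80.isCharacter_restrict P hμ
    have hμPN : ∀ n' : N.subgroupOf P, (fun m : P => μ m) n' =
        Cfsg.detChar (resT N P hNP ϑ) n' := by
      intro n'
      rw [resT_det N P hNP hϑc n']
      exact hμN (Subgroup.subgroupOfEquivOfLe hNP n')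
    obtain ⟨η, hη, hηN⟩ := ext_of_det_solvable H (N.subgroupOf P).index P (N.subgroupOf P) rfl
      hsolvP (resT N P hNP ϑ) (resT_irr N P hNP hϑ)
      (fun t n' => resT_inv N P hNP hinv t n' _) d ((resT_one N P hNP ϑ).trans hd) hcopP'
      (fun m : P => μ m) hμP hμ1 hμPN
    refine ⟨P, hNP, η, hcopP, ⟨k, hrel⟩, hη, ?_⟩
    intro n
    have hmem : (⟨n, hNP n.2⟩ : P) ∈ N.subgroupOf P := by
      rw [Subgroup.mem_subgroupOf]; exact n.2
    have h2 := hηN ⟨⟨n, hNP n.2⟩, hmem⟩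
    simp only at h2
    rw [h2, resT_mk]

/-- S0867, conditional on S0886 -/
theorem ext_unique_coprime (H : CyclicExt.{u}) {G : Type u} [Group G] [Finite G]
    (N : Subgroup G) [hN : N.Normal] (ϑ : N → ℂ) (hϑ : Cfsg.IsIrrCharacter N ϑ)
    (hinv : ∀ (g : G) (n : N), ϑ ⟨g * n * g⁻¹, hN.conj_mem (n : G) n.2 g⟩ = ϑ n) (d : ℕ)
    (hd : ϑ 1 = d) (hcop : Nat.Coprime N.index (Cfsg.detOrder ϑ * d)) :
    ∃ χ : G → ℂ, (Cfsg.IsIrrCharacter G χ ∧ (∀ n : N, χ n = ϑ n) ∧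
        Cfsg.detOrder χ = Cfsg.detOrder ϑ) ∧
      ∀ χ' : G → ℂ, Cfsg.IsIrrCharacter G χ' → (∀ n : N, χ' n = ϑ n) →
        Nat.Coprime N.index (Cfsg.detOrder χ') → χ' = χ := by
  have hϑc : Cfsg.IsCharacter N ϑ := Helper80.isCharacter_of_isIrrCharacter hϑ
  have hcop1 : Nat.Coprime N.index (Cfsg.detOrder ϑ) := Nat.Coprime.coprime_mul_right_right hcop
  have hcop2 : Nat.Coprime N.index d := Nat.Coprime.coprime_mul_left_right hcop
  -- the determinantal character is invariant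
  have hlaminv : ∀ (g : G) (n : N),
      Cfsg.detChar ϑ ⟨g * n * g⁻¹, hN.conj_mem (n : G) n.2 g⟩ = Cfsg.detChar ϑ n := by
    intro g n
    have hdc := detChar_comp (MulAut.conjNormal g : N ≃* N).toMonoidHom hϑc
    have hfun : (fun h : N => ϑ ((MulAut.conjNormal g : N ≃* N).toMonoidHom h)) = ϑ := by
      funext n
      rw [← hinv g n]
      congr 1
    rw [hfun] at hdc
    have := congrFun hdc n
    rw [this]
    congr 1
  obtain ⟨μ, ⟨hμ, hμ1, hμN, hμord⟩, hμuniq⟩ := Cfsg.Agent.S0865.result N (Cfsg.detChar ϑ)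
    ⟨isCharacter_detChar ϑ, detChar_one ϑ⟩ hlaminv hcop1
  obtain ⟨χ₀, hχ₀, hχ₀N⟩ := (ext_iff_det H N ϑ hϑ hinv d hd hcop2).mpr ⟨μ, hμ, hμ1, hμN⟩
  obtain ⟨χ, ⟨hχ, hχN, hχdet⟩, hχuniq⟩ := Cfsg.Agent.S0862.result N ϑ hϑ d hd hcop2
    ⟨χ₀, hχ₀, hχ₀N⟩ μ ⟨hμ, hμ1⟩ hμN
  refine ⟨χ, ⟨hχ, hχN, ?_⟩, ?_⟩
  · unfold Cfsg.detOrder
    rw [hχdet, hμord]
  · intro χ' hχ' hχ'N hcop'
    apply hχuniq
    refine ⟨hχ', hχ'N, ?_⟩
    apply hμuniq (Cfsg.detChar χ') ⟨isCharacter_detChar χ', detChar_one χ'⟩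
    · intro n
      have hχ'c : Cfsg.IsCharacter G χ' := Helper80.isCharacter_of_isIrrCharacter hχ'
      have := congrFun (detChar_res N hχ'c) n
      have hres : (fun n : N => χ' n) = ϑ := funext hχ'N
      rw [hres] at this
      exact this.symm
    · exact hcop'

end Cfsg.Agent.Lib.Helper15
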