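import Mathlib
import Cfsg.Agent.Lib.Helper1.Tools

set_option autoImplicit false
set_option linter.unusedSectionVars false

namespace Cfsg.Agent.Lib.Helper15

open Cfsg.Agent.Lib
open scoped Pointwise

section FRGroup

variable {G : Type*} [Group G] [Finite G]

/-- in a finite group, `g A g⁻¹ ⊆ A` puts `g` in the normalizer -/
theorem mem_normalizer_of_conj_subset (A : Subgroup G) (g : G)
    (h : ∀ a ∈ A, g * a * g⁻¹ ∈ A) : g ∈ Subgroup.normalizer (A : Set G) := by
  rw [Subgroup.mem_normalizer_iff]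
  intro x
  refine ⟨h x, fun hx => ?_⟩
  have hinj : Function.Injective (fun y : A => (⟨g * y * g⁻¹, h y y.2⟩ : A)) := by
    intro a b hab
    have : g * (a : G) * g⁻¹ = g * (b : G) * g⁻¹ := congrArg Subtype.val hab
    apply Subtype.ext
    simpa using this
  obtain ⟨y, hy⟩ := (Finite.surjective_of_injective hinj) ⟨g * x * g⁻¹, hx⟩
  have h2 : g * (y : G) * g⁻¹ = g * x * g⁻¹ := congrArg Subtype.val hy
  have h3 : (y : G) = x := by simpa using h2
  rw [← h3]
  exact y.2

theorem relIndex_ne_zero_fin (A B : Subgroup G) : A.relIndex B ≠ 0 := by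
  unfold Subgroup.relIndex
  exact Subgroup.index_ne_zero_of_finite

/-- `|K : K ∩ M|` divides `|G : M|` for `K` normal -/
theorem relIndex_dvd_index_normal (M K : Subgroup G) [K.Normal] : M.relIndex K ∣ M.index := by
  have h1 := Helper1.card_sup_mul_card_inf K M
  have h2 : Nat.card K = Nat.card ↥(K ⊓ M) * M.relIndex K := by
    have := Helper1.card_eq_card_mul_relIndex (inf_le_left : K ⊓ M ≤ K)
    rwa [Subgroup.inf_relIndex_left] at this
  have h3 : Nat.card ↥(K ⊔ M) = Nat.card M * M.relIndex (K ⊔ M) :=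
    Helper1.card_eq_card_mul_relIndex le_sup_right
  have h4 : M.relIndex (K ⊔ M) = M.relIndex K := by
    have hpos : 0 < Nat.card ↥(K ⊓ M) * Nat.card M := Nat.mul_pos Nat.card_pos Nat.card_pos
    rw [h2, h3] at h1
    apply Nat.eq_of_mul_eq_mul_left hpos
    calc Nat.card ↥(K ⊓ M) * Nat.card M * M.relIndex (K ⊔ M)
        = Nat.card M * M.relIndex (K ⊔ M) * Nat.card ↥(K ⊓ M) := by ring
      _ = Nat.card ↥(K ⊓ M) * M.relIndex K * Nat.card M := h1
      _ = Nat.card ↥(K ⊓ M) * Nat.card M * M.relIndex K := by ring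
  rw [← h4]
  exact Subgroup.relIndex_dvd_index_of_le le_sup_right

/-- `S` normalizes `S ∩ K` for `K` normal -/
theorem le_normalizer_inf_normal (S K : Subgroup G) [hK : K.Normal] :
    S ≤ Subgroup.normalizer ((S ⊓ K : Subgroup G) : Set G) := by
  intro s hs
  apply mem_normalizer_of_conj_subset
  intro a ha
  exact ⟨S.mul_mem (S.mul_mem hs ha.1) (S.inv_mem hs), hK.conj_mem a ha.2 s⟩

/-- from a stabilizer of `p`-power index in a normalizer to a subgroup of that index over `K` -/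
theorem exists_of_stab_index (K : Subgroup G) [K.Normal] (A N St : Subgroup G)
    (hAK : A ≤ K) (hASt : A ≤ St) (hStN : St ≤ N) (hfrat : ∀ g : G, ∃ k ∈ K, k * g ∈ N)
    {p n : ℕ} (hp : p.Prime) (hcop : ¬ p ∣ A.relIndex K) (hidx : St.relIndex N = p ^ n) :
    ∃ M : Subgroup G, K ≤ M ∧ M.index = p ^ n := by
  have hd1 : (K ⊓ St).relIndex (K ⊓ N) ∣ A.relIndex K := by
    have h1 : (K ⊓ St).relIndex (K ⊓ N) ∣ A.relIndex (K ⊓ N) :=
      Subgroup.relIndex_dvd_of_le_left _ (le_inf hAK hASt)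
    have h2 : A.relIndex (K ⊓ N) ∣ A.relIndex K :=
      ⟨_, (Subgroup.relIndex_mul_relIndex A (K ⊓ N) K (le_inf hAK (hASt.trans hStN))
        inf_le_left).symm⟩
    exact h1.trans h2
  have hd2 : (K ⊓ St).relIndex (K ⊓ N) ∣ p ^ n := by
    have h1 : (K ⊓ St).relIndex (K ⊓ N) = St.relIndex (K ⊓ N) := by
      have : K ⊓ St = St ⊓ (K ⊓ N) := by
        apply le_antisymm
        · exact le_inf inf_le_right (le_inf inf_le_left (inf_le_right.trans hStN))
        · exact le_inf (inf_le_right.trans inf_le_left) inf_le_left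
      rw [this, Subgroup.inf_relIndex_right]
    have h2 : St.relIndex (K ⊓ N) = (St.subgroupOf N).relIndex (K.subgroupOf N) := by
      rw [← Subgroup.inf_subgroupOf_right K N, Subgroup.relIndex_subgroupOf inf_le_right]
    rw [h1, h2, ← hidx]
    exact relIndex_dvd_index_normal (St.subgroupOf N) (K.subgroupOf N)
  have hd : (K ⊓ St).relIndex (K ⊓ N) = 1 := by
    obtain ⟨j, -, hj⟩ := (Nat.dvd_prime_pow hp).mp hd2
    rcases Nat.eq_zero_or_pos j with rfl | hjpos
    · simpa using hj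
    · exfalso
      apply hcop
      rw [hj] at hd1
      exact (dvd_pow_self p hjpos.ne').trans hd1
  have hKN : K ⊓ N ≤ K ⊓ St := Subgroup.relIndex_eq_one.mp hd
  have hKN' : K ⊓ N = K ⊓ St := le_antisymm hKN (inf_le_inf_left K hStN)
  have htop : K ⊔ N = ⊤ := by
    rw [eq_top_iff]
    intro g _
    obtain ⟨k, hk, hkg⟩ := hfrat g
    have : g = k⁻¹ * (k * g) := by group
    rw [this]
    exact Subgroup.mul_mem_sup (inv_mem hk) hkg
  refine ⟨K ⊔ St, le_sup_left, ?_⟩
  have h1 := Helper1.card_sup_mul_card_inf K St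
  have h2 := Helper1.card_sup_mul_card_inf K N
  rw [htop, hKN'] at h2
  have h3 := Helper1.card_eq_card_mul_relIndex hStN
  rw [hidx] at h3
  have h4 : Nat.card (⊤ : Subgroup G) = Nat.card G := Subgroup.card_top
  have h5 := Subgroup.card_mul_index (K ⊔ St)
  have hpos : 0 < Nat.card ↥(K ⊔ St) * Nat.card ↥(K ⊓ St) :=
    Nat.mul_pos Nat.card_pos Nat.card_pos
  apply Nat.eq_of_mul_eq_mul_left hpos
  calc Nat.card ↥(K ⊔ St) * Nat.card ↥(K ⊓ St) * (K ⊔ St).index
      = (Nat.card ↥(K ⊔ St) * (K ⊔ St).index) * Nat.card ↥(K ⊓ St) := by ring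
    _ = Nat.card (⊤ : Subgroup G) * Nat.card ↥(K ⊓ St) := by rw [h5, h4]
    _ = Nat.card K * Nat.card N := h2
    _ = Nat.card K * (Nat.card St * p ^ n) := by rw [h3]
    _ = (Nat.card K * Nat.card St) * p ^ n := by ring
    _ = Nat.card ↥(K ⊔ St) * Nat.card ↥(K ⊓ St) * p ^ n := by rw [h1]

/-- the Sylow set-up: `S = Z R`, `A = S ∩ K` -/
theorem sylow_setup (Z K : Subgroup G) [hZn : Z.Normal] [hKn : K.Normal] (hZK : Z ≤ K) {p : ℕ}
    [hpf : Fact p.Prime] (R : Sylow p G) :
    (∃ r, Z.relIndex (Z ⊔ (R : Subgroup G)) = p ^ r) ∧ ¬ p ∣ (Z ⊔ (R : Subgroup G)).index ∧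
    (∀ g : G, ∃ k ∈ K, k * g ∈
      Subgroup.normalizer (((Z ⊔ (R : Subgroup G)) ⊓ K : Subgroup G) : Set G)) := by
  have hp : p.Prime := hpf.out
  obtain ⟨a, ha⟩ := IsPGroup.iff_card.mp R.2
  have hRidx : ¬ p ∣ (R : Subgroup G).index := R.not_dvd_index
  refine ⟨?_, ?_, ?_⟩
  · have h1 : Z.relIndex (Z ⊔ (R : Subgroup G)) ∣ p ^ a := by
      rw [Subgroup.relIndex_sup_left, ← ha]
      exact Subgroup.relIndex_dvd_card _ _
    obtain ⟨r, -, hr⟩ := (Nat.dvd_prime_pow hp).mp h1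
    exact ⟨r, hr⟩
  · intro h
    exact hRidx (h.trans (Subgroup.index_dvd_of_le le_sup_right))
  · -- Frattini
    set R₁ : Subgroup G := (R : Subgroup G) ⊓ K with hR₁
    have h1 : Nat.card R₁ ∣ p ^ a := by
      rw [← ha]
      exact Subgroup.card_dvd_of_le inf_le_left
    obtain ⟨k, -, hk⟩ := (Nat.dvd_prime_pow hp).mp h1
    have hKcard : ¬ p ^ (k + 1) ∣ Nat.card K := by
      have h2 := Helper1.card_eq_card_mul_relIndex (inf_le_right : R₁ ≤ K)
      rw [Subgroup.inf_relIndex_right] at h2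
      change Nat.card K = Nat.card R₁ * _ at h2
      rw [hk] at h2
      rw [h2, pow_succ]
      intro h3
      have h4 : p ∣ (R : Subgroup G).relIndex K :=
        (Nat.mul_dvd_mul_iff_left (pow_pos hp.pos k)).mp h3
      exact hRidx (h4.trans (relIndex_dvd_index_normal _ K))
    intro g
    have hQ₁ : MulAut.conj g • R₁ ≤ K := by
      intro x hx
      obtain ⟨s, hs, rfl⟩ := (Subgroup.mem_smul_pointwise_iff_exists _ _ _).mp hx
      rw [MulAut.smul_def, MulAut.conj_apply]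
      exact hKn.conj_mem s hs.2 g
    have hc₁ : Nat.card ↥(MulAut.conj g • R₁) = p ^ k := by
      rw [Helper1.card_conj_smul, hk]
    obtain ⟨x, hxK, hx⟩ := Helper1.exists_conj_of_card_eq_pow p hQ₁ (inf_le_right : R₁ ≤ K) k
      hc₁ hk hKcard
    refine ⟨x, hxK, ?_⟩
    apply mem_normalizer_of_conj_subset
    intro b hb
    obtain ⟨z, hz, s, hs, rfl⟩ := Subgroup.mem_sup_of_normal_left.mp hb.1
    have hsK : s ∈ K := by
      have : s = z⁻¹ * (z * s) := by group
      rw [this]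
      exact K.mul_mem (K.inv_mem (hZK hz)) hb.2
    have hsR₁ : s ∈ R₁ := ⟨hs, hsK⟩
    have h5 : x * g * s * (x * g)⁻¹ ∈ R₁ := by
      have hx' : MulAut.conj x • MulAut.conj g • R₁ = R₁ := hx
      rw [← hx']
      refine (Subgroup.mem_smul_pointwise_iff_exists _ _ _).mpr ⟨g * s * g⁻¹, ?_, ?_⟩
      · exact (Subgroup.mem_smul_pointwise_iff_exists _ _ _).mpr ⟨s, hsR₁, by
          rw [MulAut.smul_def, MulAut.conj_apply]⟩
      · rw [MulAut.smul_def, MulAut.conj_apply]
        group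
    have h6 : x * g * z * (x * g)⁻¹ ∈ Z := hZn.conj_mem z hz (x * g)
    have h7 : x * g * (z * s) * (x * g)⁻¹ = (x * g * z * (x * g)⁻¹) * (x * g * s * (x * g)⁻¹) := by
      group
    rw [h7]
    exact ⟨Subgroup.mul_mem_sup h6 h5.1, K.mul_mem (hZK h6) h5.2⟩

/-- the image of `M` in `G ⧸ K` is a `p`-complement -/
theorem pcompl_quot (Z K : Subgroup G) [hZn : Z.Normal] [hKn : K.Normal] (hZK : Z ≤ K) {p : ℕ}
    [hpf : Fact p.Prime] (R : Sylow p G) (M : Subgroup G) (hKM : K ≤ M)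
    (hM : M.index = K.relIndex (Z ⊔ (R : Subgroup G))) :
    ∃ n, (M.map (QuotientGroup.mk' K)).index = p ^ n ∧
      ¬ p ∣ Nat.card (M.map (QuotientGroup.mk' K)) := by
  have hp : p.Prime := hpf.out
  obtain ⟨⟨r, hr⟩, hSidx, -⟩ := sylow_setup Z K hZK R
  have h1 : K.relIndex (Z ⊔ (R : Subgroup G)) ∣ p ^ r := by
    rw [← hr]
    exact Subgroup.relIndex_dvd_of_le_left _ hZK
  obtain ⟨n, -, hn⟩ := (Nat.dvd_prime_pow hp).mp h1
  have hidx : (M.map (QuotientGroup.mk' K)).index = p ^ n := by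
    rw [Subgroup.index_map, QuotientGroup.ker_mk', sup_eq_left.mpr hKM,
      MonoidHom.range_eq_top.mpr (QuotientGroup.mk'_surjective K), Subgroup.index_top, mul_one,
      hM, hn]
  refine ⟨n, hidx, ?_⟩
  have h2 := Subgroup.card_mul_index (M.map (QuotientGroup.mk' K))
  rw [hidx, ← Subgroup.index_eq_card] at h2
  have h3 : K.relIndex (Z ⊔ (R : Subgroup G)) * ((Z ⊔ (R : Subgroup G)) ⊔ K).index = K.index := by
    rw [← Subgroup.relIndex_sup_right (Z ⊔ (R : Subgroup G)) K]
    exact Subgroup.relIndex_mul_index le_sup_right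
  rw [hn] at h3
  have h4 : Nat.card (M.map (QuotientGroup.mk' K)) = ((Z ⊔ (R : Subgroup G)) ⊔ K).index := by
    apply Nat.eq_of_mul_eq_mul_left (pow_pos hp.pos n)
    rw [h3, mul_comm, h2]
  rw [h4]
  intro h5
  exact hSidx (h5.trans (Subgroup.index_dvd_of_le le_sup_left))

end FRGroup

/-- a subgroup of `p`-power index and `p'`-order complements every Sylow `p`-subgroup -/
theorem isComplement'_sylow_of_index {X : Type*} [Group X] [Finite X] {p : ℕ}
    [hpf : Fact p.Prime] (P : Sylow p X) (M : Subgroup X) {n : ℕ} (hM : M.index = p ^ n)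
    (hcop : ¬ p ∣ Nat.card M) : M.IsComplement' (P : Subgroup X) := by
  have hp : p.Prime := hpf.out
  have h2 := P.card_eq_multiplicity
  apply Subgroup.isComplement'_of_coprime
  · have h1 := Subgroup.card_mul_index M
    rw [h2, ← h1, hM]
    congr 1
    rw [Nat.factorization_mul (Nat.card_pos.ne') (pow_ne_zero _ hp.ne_zero)]
    simp [Nat.factorization_eq_zero_of_not_dvd hcop, hp.factorization_self]
  · rw [h2]
    exact Nat.Coprime.pow_right _ ((Nat.Prime.coprime_iff_not_dvd hp).mpr hcop).symm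

/-- `p`-subgroups lie in cyclic subgroups when the Sylow `p`-subgroups are cyclic -/
theorem exists_cyclic_ge {X : Type*} [Group X] [Finite X] {p : ℕ} [Fact p.Prime]
    (P : Sylow p X) (hcyc : IsCyclic P) (T : Subgroup X) (hT : IsPGroup p T) :
    ∃ Q : Subgroup X, T ≤ Q ∧ IsCyclic Q := by
  obtain ⟨Q, hQ⟩ := hT.exists_le_sylow
  obtain ⟨g, hg⟩ := MulAction.exists_smul_eq X P Q
  refine ⟨Q, hQ, ?_⟩
  rw [← hg]
  exact isCyclic_of_surjective (Sylow.equivSMul P g) (MulEquiv.surjective _)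

end Cfsg.Agent.Lib.Helper15
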