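import Mathlib
import Cfsg.Prelude.Def_Characters
import Cfsg.Agent.Lib.Helper3.IndFun
import Cfsg.Agent.Lib.Helper80.CharOps
import Cfsg.Agent.Lib.Helper80.CharKer
import Cfsg.Agent.Lib.Helper81.MinNormal
import Cfsg.Agent.Lib.Helper81.Dornhoff

/-!
# Mackey's formula for `G = U H`, inflation of induced functions, and a normality criterion

* `card_comap_mul_sum`: fibre counting for `U × H → G`, `(u, h) ↦ f u * h`.
* `indFun_comp_hom`: for a homomorphism `f : U →* G` with `f(U) H = G`, the function induced from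
  `H` to `G`, composed with `f`, is the function induced from `f⁻¹(H)` to `U`.
* `isIrrCharacter_of_comp`: a character whose pull-back along a homomorphism is irreducible is
  irreducible.
* `normal_of_ind_norm`: if `ξ ∈ Irr(Q)` restricts irreducibly to `L ⊴ G`, `L ≤ Q`, and
  `[ξ^G, ξ^G] = |G : Q|`, then `Q` is normal in `G`.
-/

set_option autoImplicit false

namespace Cfsg.Agent.Lib.Helper15

open scoped ComplexConjugate

section Count

variable {G U : Type*} [Group G] [Fintype G] [Group U] [Fintype U]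

/-- Fibre counting: if every element of `G` is of the form `f u * h` with `h ∈ H`, and `F` is
constant on left cosets of `H`, then `|f⁻¹(H)| ∑_G F = |H| ∑_U F ∘ f`. -/
theorem card_comap_mul_sum (f : U →* G) (H : Subgroup G)
    (hsurj : ∀ g : G, ∃ u : U, ∃ h ∈ H, g = f u * h) (F : G → ℂ)
    (hF : ∀ g : G, ∀ h ∈ H, F (g * h) = F g) :
    (Nat.card (H.comap f) : ℂ) * ∑ g : G, F g = (Nat.card H : ℂ) * ∑ u : U, F (f u) := by
  classical
  have : Fintype H := Fintype.ofFinite H
  have : Fintype (H.comap f) := Fintype.ofFinite _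
  -- the double sum
  have h1 : ∑ p : U × H, F (f p.1 * (p.2 : G)) = (Nat.card H : ℂ) * ∑ u : U, F (f u) := by
    rw [Fintype.sum_prod_type]
    have : ∀ u : U, ∑ h : H, F (f u * (h : G)) = (Nat.card H : ℂ) * F (f u) := by
      intro u
      rw [Finset.sum_congr rfl (fun (h : H) _ => hF (f u) (h : G) h.2), Finset.sum_const, Finset.card_univ,
        nsmul_eq_mul, Nat.card_eq_fintype_card]
    rw [Finset.sum_congr rfl (fun u _ => this u), ← Finset.mul_sum]
  have h2 : ∑ p : U × H, F (f p.1 * (p.2 : G)) = (Nat.card (H.comap f) : ℂ) * ∑ g : G, F g := by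
    rw [← Finset.sum_fiberwise (s := (Finset.univ : Finset (U × H)))
      (g := fun p : U × H => f p.1 * (p.2 : G)) (f := fun p => F (f p.1 * (p.2 : G)))]
    rw [Finset.mul_sum]
    refine Finset.sum_congr rfl fun g _ => ?_
    have hc : ∑ p ∈ (Finset.univ : Finset (U × H)).filter (fun p => f p.1 * (p.2 : G) = g),
        F (f p.1 * (p.2 : G)) =
        ∑ _p ∈ (Finset.univ : Finset (U × H)).filter (fun p => f p.1 * (p.2 : G) = g), F g := by
      refine Finset.sum_congr rfl fun p hp => ?_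
      rw [(Finset.mem_filter.mp hp).2]
    rw [hc, Finset.sum_const, nsmul_eq_mul]
    congr 1
    obtain ⟨u₀, h₀, hh₀, hg⟩ := hsurj g
    rw [Nat.card_eq_fintype_card, ← Finset.card_univ]
    norm_cast
    refine Finset.card_bij' (fun p hp => (⟨u₀⁻¹ * p.1, ?_⟩ : H.comap f))
      (fun v _ => (u₀ * (v : U), (⟨(f (v : U))⁻¹ * h₀, H.mul_mem (H.inv_mem v.2) hh₀⟩ : H)))
      (fun _ _ => Finset.mem_univ _) ?_ ?_ ?_
    · have hp' : f p.1 * (p.2 : G) = g := (Finset.mem_filter.mp hp).2
      rw [Subgroup.mem_comap, map_mul, map_inv]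
      have : (f u₀)⁻¹ * f p.1 = h₀ * ((p.2 : G))⁻¹ := by
        rw [hg] at hp'
        rw [inv_mul_eq_iff_eq_mul, ← mul_assoc, ← hp']
        simp
      rw [this]
      exact H.mul_mem hh₀ (H.inv_mem p.2.2)
    · intro v _
      rw [Finset.mem_filter]
      refine ⟨Finset.mem_univ _, ?_⟩
      simp only [map_mul]
      rw [hg]
      simp [mul_assoc]
    · intro p hp
      have hp' : f p.1 * (p.2 : G) = g := (Finset.mem_filter.mp hp).2
      apply Prod.ext
      · simp
      · apply Subtype.ext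
        simp only [map_mul, map_inv, mul_inv_rev, inv_inv]
        rw [hg] at hp'
        have : (p.2 : G) = (f p.1)⁻¹ * (f u₀ * h₀) := by
          rw [← hp']
          simp
        rw [this]
        simp [mul_assoc]
    · intro v _
      apply Subtype.ext
      simp
  rw [← h2, h1]

/-- Cardinality form: `|f⁻¹(H)| |G| = |H| |U|`. -/
theorem card_comap_mul_card (f : U →* G) (H : Subgroup G)
    (hsurj : ∀ g : G, ∃ u : U, ∃ h ∈ H, g = f u * h) :
    Nat.card (H.comap f) * Nat.card G = Nat.card H * Nat.card U := by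
  have h := card_comap_mul_sum f H hsurj (fun _ => 1) (fun _ _ _ => rfl)
  simp only [Finset.sum_const, Finset.card_univ, nsmul_eq_mul, mul_one] at h
  rw [← Nat.card_eq_fintype_card, ← Nat.card_eq_fintype_card] at h
  exact_mod_cast h

/-- Index form: `|U : f⁻¹(H)| = |G : H|`. -/
theorem index_comap_eq (f : U →* G) (H : Subgroup G)
    (hsurj : ∀ g : G, ∃ u : U, ∃ h ∈ H, g = f u * h) :
    (H.comap f).index = H.index := by
  have h := card_comap_mul_card f H hsurj
  have h1 := Subgroup.index_mul_card (H.comap f)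
  have h2 := Subgroup.index_mul_card H
  have hU : 0 < Nat.card U := Nat.card_pos
  have hH : 0 < Nat.card H := Nat.card_pos
  have hc : 0 < Nat.card (H.comap f) := Nat.card_pos
  have : (H.comap f).index * (Nat.card (H.comap f) * Nat.card H) =
      H.index * (Nat.card (H.comap f) * Nat.card H) := by
    calc (H.comap f).index * (Nat.card (H.comap f) * Nat.card H)
        = ((H.comap f).index * Nat.card (H.comap f)) * Nat.card H := by ring
      _ = Nat.card U * Nat.card H := by rw [h1]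
      _ = Nat.card (H.comap f) * Nat.card G := by rw [h]; ring
      _ = Nat.card (H.comap f) * (H.index * Nat.card H) := by rw [h2]
      _ = H.index * (Nat.card (H.comap f) * Nat.card H) := by ring
  exact Nat.eq_of_mul_eq_mul_right (Nat.mul_pos hc hH) this

/-- **Mackey's formula / inflation** in homomorphism form: if `f(U) H = G` then the function
induced from `H` to `G`, composed with `f`, is the function induced from `f⁻¹(H)` to `U`. -/
theorem indFun_comp_hom (f : U →* G) (H : Subgroup G)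
    (hsurj : ∀ g : G, ∃ u : U, ∃ h ∈ H, g = f u * h) (ϑ : H → ℂ)
    (hϑ : Cfsg.IsClassFunction H ϑ) (x : U) :
    Cfsg.indFun H ϑ (f x) = Cfsg.indFun (H.comap f) (fun y => ϑ ⟨f y, y.2⟩) x := by
  classical
  unfold Cfsg.indFun
  have hF : ∀ g : G, ∀ h ∈ H, Cfsg.extendByZero H ϑ ((g * h)⁻¹ * f x * (g * h)) =
      Cfsg.extendByZero H ϑ (g⁻¹ * f x * g) := by
    intro g h hh
    have e : (g * h)⁻¹ * f x * (g * h) = h⁻¹ * (g⁻¹ * f x * g) * h := by group
    rw [e]
    by_cases hy : g⁻¹ * f x * g ∈ H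
    · have hy' : h⁻¹ * (g⁻¹ * f x * g) * h ∈ H := H.mul_mem (H.mul_mem (H.inv_mem hh) hy) hh
      rw [Cfsg.Agent.Lib.Helper3.extendByZero_of_mem H ϑ hy,
        Cfsg.Agent.Lib.Helper3.extendByZero_of_mem H ϑ hy']
      have := hϑ ⟨g⁻¹ * f x * g, hy⟩ ⟨h⁻¹, H.inv_mem hh⟩
      rw [← this]
      congr 1
      apply Subtype.ext
      simp
    · have hy' : h⁻¹ * (g⁻¹ * f x * g) * h ∉ H := by
        intro hc
        apply hy
        have := H.mul_mem (H.mul_mem hh hc) (H.inv_mem hh)
        simpa [mul_assoc] using this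
      rw [Cfsg.Agent.Lib.Helper3.extendByZero_of_not_mem H ϑ hy,
        Cfsg.Agent.Lib.Helper3.extendByZero_of_not_mem H ϑ hy']
  have hcount := card_comap_mul_sum f H hsurj
    (fun g => Cfsg.extendByZero H ϑ (g⁻¹ * f x * g)) hF
  have hR : ∀ u : U, Cfsg.extendByZero (H.comap f) (fun y => ϑ ⟨f y, y.2⟩) (u⁻¹ * x * u) =
      Cfsg.extendByZero H ϑ ((f u)⁻¹ * f x * f u) := by
    intro u
    have e : (f u)⁻¹ * f x * f u = f (u⁻¹ * x * u) := by simp
    rw [e]
    by_cases hy : u⁻¹ * x * u ∈ H.comap f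
    · rw [Cfsg.Agent.Lib.Helper3.extendByZero_of_mem _ _ hy,
        Cfsg.Agent.Lib.Helper3.extendByZero_of_mem H ϑ (Subgroup.mem_comap.mp hy)]
    · rw [Cfsg.Agent.Lib.Helper3.extendByZero_of_not_mem _ _ hy,
        Cfsg.Agent.Lib.Helper3.extendByZero_of_not_mem H ϑ (fun h => hy (Subgroup.mem_comap.mpr h))]
  rw [Finset.sum_congr rfl (fun u _ => hR u)]
  have hH0 : (Nat.card H : ℂ) ≠ 0 := by exact_mod_cast (Nat.card_pos (α := H)).ne'
  have hc0 : (Nat.card (H.comap f) : ℂ) ≠ 0 := by
    exact_mod_cast (Nat.card_pos (α := H.comap f)).ne'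
  field_simp
  linear_combination hcount

end Count

section Normality

universe u

/-- A character whose pull-back along a homomorphism is irreducible is itself irreducible. -/
theorem isIrrCharacter_of_comp {D : Type u} [Group D] [Fintype D] {L₁ : Type*} [Group L₁]
    [Fintype L₁] (f : L₁ →* D) {ψ : D → ℂ} (hψ : Cfsg.IsCharacter D ψ)
    (h : Cfsg.IsIrrCharacter L₁ (fun x => ψ (f x))) : Cfsg.IsIrrCharacter D ψ := by
  classical
  have : Fintype (Cfsg.IrrCharacter D) := Fintype.ofFinite _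
  have : Fintype (Cfsg.IrrCharacter L₁) := Fintype.ofFinite _
  have h1 : ψ 1 ≠ 0 := by
    have := Cfsg.Agent.Lib.Helper80.char_one_ne_zero h
    simpa using this
  obtain ⟨χ₀, hχ₀, hne⟩ := Cfsg.Agent.Lib.Helper81.exists_constituent81 hψ h1
  have hχ₀c := Cfsg.Agent.Lib.Helper80.isCharacter_of_isIrrCharacter hχ₀
  obtain ⟨c, hc1, hc⟩ := Cfsg.Agent.Lib.Helper81.classInner_restrict_pos f hψ hχ₀c hne
  have hne' : Cfsg.classInner (fun x => χ₀ (f x)) (fun x => ψ (f x)) ≠ 0 := by
    rw [← Cfsg.Agent.Lib.Helper80.classInner_conj_symm]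
    have hc' : Cfsg.classInner (fun x => ψ (f x)) (fun x => χ₀ (f x)) = c := hc
    rw [hc', Complex.conj_natCast]
    exact_mod_cast (by omega : c ≠ 0)
  have hdeg : Cfsg.charDegree χ₀ ≤ Cfsg.charDegree ψ :=
    Cfsg.Agent.Lib.Helper81.charDegree_le_of_constituent hψ hχ₀ hne
  have hdeg' : Cfsg.charDegree (fun x => χ₀ (f x)) ≤ Cfsg.charDegree (fun x => ψ (f x)) := by
    unfold Cfsg.charDegree
    simp only [map_one]
    exact hdeg
  have heq := Cfsg.Agent.Lib.Helper80.eq_of_constituent_of_degree_le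
    (Cfsg.Agent.Lib.Helper80.isCharacter_comp f hχ₀c) h hne' hdeg'
  have hd : Cfsg.charDegree ψ ≤ Cfsg.charDegree χ₀ := by
    have h2 := congrFun heq 1
    simp only [map_one] at h2
    unfold Cfsg.charDegree
    rw [h2]
  have := Cfsg.Agent.Lib.Helper80.eq_of_constituent_of_degree_le hψ hχ₀ hne hd
  rw [this]
  exact hχ₀

variable {G : Type u} [Group G] [Fintype G]

/-- If `ξ` is a character of `Q` whose restriction to a normal subgroup `L ≤ Q` of `G` is
irreducible and `[ξ^G, ξ^G] = |G : Q|`, then `Q` is normal in `G`. -/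
theorem normal_of_ind_norm (Q L : Subgroup G) [hL : L.Normal] (hLQ : L ≤ Q) (ξ : Q → ℂ)
    (hξ : Cfsg.IsCharacter Q ξ)
    (hξL : Cfsg.IsIrrCharacter L (fun x : L => ξ ⟨x, hLQ x.2⟩))
    (hnorm : Cfsg.classInner (Cfsg.indFun Q ξ) (Cfsg.indFun Q ξ) = (Q.index : ℂ)) :
    ∀ g : G, ∀ x ∈ Q, g * x * g⁻¹ ∈ Q := by
  classical
  have : Fintype Q := Fintype.ofFinite Q
  have : Fintype L := Fintype.ofFinite L
  have hQ0 : (Nat.card Q : ℂ) ≠ 0 := by exact_mod_cast (Nat.card_pos (α := Q)).ne'
  have hG0 : (Nat.card G : ℂ) ≠ 0 := by exact_mod_cast (Nat.card_pos (α := G)).ne'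
  let T : G → ℂ := fun g => ∑ x : Q, ξ x * conj (Cfsg.extendByZero Q ξ (g⁻¹ * (x : G) * g))
  have hsum : ∑ g : G, T g = (Nat.card Q : ℂ) * (Nat.card G : ℂ) := by
    have h1 := Cfsg.Agent.Lib.Helper80.frobenius_reciprocity Q ξ (Cfsg.indFun Q ξ)
      (Cfsg.Agent.Lib.Helper80.isClassFunction_indFun Q ξ)
    rw [hnorm] at h1
    have h2 : Cfsg.classInner ξ (fun h : Q => Cfsg.indFun Q ξ h) =
        (Nat.card Q : ℂ)⁻¹ * ((Nat.card Q : ℂ)⁻¹ * ∑ g : G, T g) := by
      unfold Cfsg.classInner Cfsg.indFun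
      congr 1
      have e1 : ∀ x : Q, ξ x * conj ((Nat.card Q : ℂ)⁻¹ *
          ∑ g : G, Cfsg.extendByZero Q ξ (g⁻¹ * (x : G) * g)) =
          (Nat.card Q : ℂ)⁻¹ * ∑ g : G, ξ x * conj (Cfsg.extendByZero Q ξ (g⁻¹ * (x : G) * g)) := by
        intro x
        rw [map_mul, map_inv₀, Complex.conj_natCast, map_sum, Finset.mul_sum, Finset.mul_sum,
          Finset.mul_sum]
        refine Finset.sum_congr rfl fun g _ => ?_
        ring
      rw [Finset.sum_congr rfl (fun x _ => e1 x), ← Finset.mul_sum, Finset.sum_comm]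
    rw [h2] at h1
    have h3 : (Q.index : ℂ) * (Nat.card Q : ℂ) = (Nat.card G : ℂ) := by
      exact_mod_cast Subgroup.index_mul_card Q
    field_simp at h1
    linear_combination (-1 : ℂ) * h1 + (Nat.card Q : ℂ) * h3
  -- each term is a natural number at most `|Q|`, with equality only if `Q ≤ g Q g⁻¹`
  have hterm : ∀ g : G, ∃ t : ℕ, T g = t ∧ t ≤ Nat.card Q ∧
      (t = Nat.card Q → ∀ x ∈ Q, g⁻¹ * x * g ∈ Q) := by
    intro g
    let D : Subgroup G := Q ⊓ Q.comap (MulAut.conj g⁻¹).toMonoidHom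
    have : Fintype D := Fintype.ofFinite D
    have hLD : L ≤ D := by
      intro l hl
      refine ⟨hLQ hl, ?_⟩
      show (MulAut.conj g⁻¹) l ∈ Q
      rw [MulAut.conj_apply]
      exact hLQ (hL.conj_mem l hl g⁻¹)
    let ι₁ : D →* Q := Subgroup.inclusion inf_le_left
    let ι₂ : D →* Q := ((MulAut.conj g⁻¹).toMonoidHom.comp D.subtype).codRestrict Q
      (fun x => x.2.2)
    have hι₂ : ∀ x : D, ((ι₂ x : Q) : G) = g⁻¹ * (x : G) * g := by
      intro x
      simp [ι₂]
    have hα : Cfsg.IsIrrCharacter D (fun x : D => ξ (ι₁ x)) :=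
      isIrrCharacter_of_comp (Subgroup.inclusion hLD)
        (Cfsg.Agent.Lib.Helper80.isCharacter_comp ι₁ hξ) hξL
    have hβ : Cfsg.IsIrrCharacter D (fun x : D => ξ (ι₂ x)) := by
      apply isIrrCharacter_of_comp (Subgroup.inclusion hLD)
        (Cfsg.Agent.Lib.Helper80.isCharacter_comp ι₂ hξ)
      have h1 := Cfsg.Agent.Lib.Helper80.isIrrCharacter_comp_mulEquiv
        (MulAut.conjNormal (H := L) g⁻¹) hξL
      have h2 : (fun x : L => ξ (ι₂ (Subgroup.inclusion hLD x))) =
          (fun l : L => (fun x : L => ξ ⟨x, hLQ x.2⟩) ((MulAut.conjNormal (H := L) g⁻¹) l)) := by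
        funext l
        congr 1
      rw [h2]
      exact h1
    have hT : T g = ∑ x : D, ξ (ι₁ x) * conj (ξ (ι₂ x)) := by
      symm
      apply Fintype.sum_of_injective (fun x : D => ι₁ x)
      · intro a b hab
        apply Subtype.ext
        exact congrArg (fun z : Q => (z : G)) hab
      · intro x hx
        have hx' : g⁻¹ * (x : G) * g ∉ Q := by
          intro h
          apply hx
          refine ⟨⟨(x : G), ⟨x.2, ?_⟩⟩, Subtype.ext rfl⟩
          show (MulAut.conj g⁻¹) (x : G) ∈ Q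
          rw [MulAut.conj_apply, inv_inv]
          exact h
        rw [Cfsg.Agent.Lib.Helper3.extendByZero_of_not_mem Q ξ hx', map_zero, mul_zero]
      · intro y
        have hy : g⁻¹ * ((ι₁ y : Q) : G) * g ∈ Q := by
          have := (ι₂ y).2
          rw [hι₂] at this
          exact this
        rw [Cfsg.Agent.Lib.Helper3.extendByZero_of_mem Q ξ hy]
        congr 3
        apply Subtype.ext
        rw [hι₂]
        rfl
    have hinner := Cfsg.Agent.Lib.Helper80.classInner_irr_fun hα hβ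
    have hD0 : (Nat.card D : ℂ) ≠ 0 := by exact_mod_cast (Nat.card_pos (α := D)).ne'
    have hT' : T g = (Nat.card D : ℂ) * (if (fun x : D => ξ (ι₁ x)) = (fun x : D => ξ (ι₂ x))
        then 1 else 0) := by
      rw [hT, ← hinner]
      unfold Cfsg.classInner
      rw [← mul_assoc, mul_inv_cancel₀ hD0, one_mul]
    have hDQ : Nat.card D ≤ Nat.card Q := Subgroup.card_le_of_le inf_le_left
    by_cases hab : (fun x : D => ξ (ι₁ x)) = (fun x : D => ξ (ι₂ x))
    · refine ⟨Nat.card D, ?_, hDQ, ?_⟩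
      · rw [hT', if_pos hab, mul_one]
      · intro hcard x hx
        have hDeq : D = Q := Subgroup.eq_of_le_of_card_ge inf_le_left hcard.ge
        have hxD : x ∈ D := by rw [hDeq]; exact hx
        have h2 : (MulAut.conj g⁻¹) x ∈ Q := hxD.2
        rw [MulAut.conj_apply, inv_inv] at h2
        exact h2
    · refine ⟨0, ?_, Nat.zero_le _, ?_⟩
      · rw [hT', if_neg hab, mul_zero, Nat.cast_zero]
      · intro hcard
        exact absurd hcard.symm (Nat.card_pos (α := Q)).ne'
  choose t ht1 ht2 ht3 using hterm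
  have hsumt : ∑ g : G, t g = ∑ _g : G, Nat.card Q := by
    have h1 : ((∑ g : G, t g : ℕ) : ℂ) = ((∑ _g : G, Nat.card Q : ℕ) : ℂ) := by
      push_cast
      rw [← Finset.sum_congr rfl (fun g _ => ht1 g), hsum, Finset.sum_const, Finset.card_univ,
        nsmul_eq_mul, ← Nat.card_eq_fintype_card]
      ring
    exact_mod_cast h1
  have hall := (Finset.sum_eq_sum_iff_of_le (fun g _ => ht2 g)).mp hsumt
  intro g x hx
  have := ht3 g⁻¹ (hall g⁻¹ (Finset.mem_univ _)) x hx
  simpa using this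

end Normality

end Cfsg.Agent.Lib.Helper15
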