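import Mathlib
import Cfsg.Prelude.Def_Transfer
import Cfsg.Agent.Lib.Helper55.Tate
import Cfsg.Agent.Lib.Helper1.BurnsideBasis
import Cfsg.Agent.Lib.Helper15.FRGroup

/-!
# Normal complements to a Sylow normalizer

Group-theoretic part of: if `O^{p'}(G) ∩ N_G(P) = P` and `⟨[P,P]^G⟩ ∩ N_G(P) = [P,P]`, then
`N_G(P)` has a normal complement in `G` (Burnside transfer in a quotient, then Tate).
-/

set_option autoImplicit false

namespace Cfsg.Agent.Lib.Helper15

open scoped commutatorElement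

/-- An element whose order is prime to `m` lies in `H` as soon as its `m`-th power does. -/
theorem nx_mem_of_pow_mem {G : Type*} [Group G] (H : Subgroup G) {x : G} {m : ℕ}
    (hc : (orderOf x).Coprime m) (h : x ^ m ∈ H) : x ∈ H := by
  obtain ⟨k, hk⟩ := exists_pow_eq_self_of_coprime hc.symm
  rw [← hk]
  exact H.pow_mem h k

/-- Conjugation preserves the order. -/
theorem nx_orderOf_conj {G : Type*} [Group G] (g n : G) :
    orderOf (g * n * g⁻¹) = orderOf n := by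
  have := (MulAut.conj g).orderOf_eq n
  simpa using this

/-- If `H` has a normal `p`-complement, the `p'`-elements of `H` form a subgroup. -/
theorem nx_pPrime_of_hasNormalPComplement {H : Type*} [Group H] [Finite H] {p : ℕ}
    [Fact p.Prime] (h : Cfsg.HasNormalPComplement p H) :
    ∃ K : Subgroup H, ∀ x, x ∈ K ↔ (orderOf x).Coprime p := by
  obtain ⟨P, K, hKn, hc⟩ := h
  have hp : p.Prime := Fact.out
  refine ⟨K, fun x => ⟨fun hx => ?_, fun hx => ?_⟩⟩
  · have h1 : orderOf x ∣ Nat.card K := by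
      have := orderOf_dvd_natCard (⟨x, hx⟩ : K)
      rwa [Subgroup.orderOf_mk] at this
    have h2 : (P : Subgroup H).index = Nat.card K := hc.index_eq_card
    have h3 : ¬ p ∣ Nat.card K := h2 ▸ P.not_dvd_index
    exact Nat.Coprime.coprime_dvd_left h1 ((Nat.Prime.coprime_iff_not_dvd hp).mpr h3).symm
  · have h1 : x ^ K.index ∈ K := Subgroup.pow_index_mem K x
    have h2 : K.index = Nat.card (P : Subgroup H) := hc.symm.index_eq_card
    obtain ⟨n, hn⟩ := IsPGroup.iff_card.mp P.2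
    apply nx_mem_of_pow_mem K _ h1
    rw [h2, hn]
    exact Nat.Coprime.pow_right n hx

/-- If the `p'`-elements form a subgroup `K`, then `K P = M` for a Sylow `p`-subgroup `P`. -/
theorem nx_pPrime_sup_sylow {M : Type*} [Group M] [Finite M] {p : ℕ} [Fact p.Prime]
    (P : Sylow p M) (K : Subgroup M) (hK : ∀ x, x ∈ K ↔ (orderOf x).Coprime p) :
    K ⊔ (P : Subgroup M) = ⊤ := by
  have hp : p.Prime := Fact.out
  have hKn : K.Normal := by
    constructor
    intro n hn g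
    rw [hK] at hn ⊢
    rwa [nx_orderOf_conj]
  have hQ : IsPGroup p (M ⧸ K) := by
    intro q
    obtain ⟨x, rfl⟩ := QuotientGroup.mk_surjective q
    have hpos : orderOf x ≠ 0 := (orderOf_pos x).ne'
    obtain ⟨k, m, hm, hkm⟩ := Nat.exists_eq_pow_mul_and_not_dvd hpos p hp.ne_one
    refine ⟨k, ?_⟩
    rw [← QuotientGroup.mk_pow, QuotientGroup.eq_one_iff, hK]
    have h1 : (x ^ p ^ k) ^ m = 1 := by
      rw [← pow_mul, ← hkm]; exact pow_orderOf_eq_one x
    have h2 : orderOf (x ^ p ^ k) ∣ m := orderOf_dvd_of_pow_eq_one h1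
    exact Nat.Coprime.coprime_dvd_left h2 ((Nat.Prime.coprime_iff_not_dvd hp).mpr hm).symm
  obtain ⟨n, hn⟩ := IsPGroup.iff_card.mp hQ
  have h1 : (K ⊔ (P : Subgroup M)).index ∣ p ^ n := by
    have h0 : K.index = p ^ n := by rw [Subgroup.index_eq_card, hn]
    have := Subgroup.index_dvd_of_le (le_sup_left : K ≤ K ⊔ (P : Subgroup M))
    rwa [h0] at this
  have h2 : (K ⊔ (P : Subgroup M)).index ∣ (P : Subgroup M).index :=
    Subgroup.index_dvd_of_le le_sup_right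
  have h3 : (K ⊔ (P : Subgroup M)).index = 1 := by
    obtain ⟨j, -, hj⟩ := (Nat.dvd_prime_pow hp).mp h1
    rcases Nat.eq_zero_or_pos j with rfl | hjpos
    · simpa using hj
    · exfalso
      apply P.not_dvd_index
      have h4 : p ∣ (K ⊔ (P : Subgroup M)).index := by
        rw [hj]; exact dvd_pow_self p hjpos.ne'
      exact h4.trans h2
  exact Subgroup.index_eq_one.mp h3

/-- **Burnside + Tate**: let `P` be a self-normalizing Sylow `p`-subgroup of `M` and `M₀` a normal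
subgroup of `M` with `M₀ ∩ P = [P,P]`. Then `M` has a normal `p`-complement: the `p'`-elements
of `M` form a subgroup. -/
theorem nx_pPrime_of_selfNormalizing {M : Type*} [Group M] [Finite M] {p : ℕ} [Fact p.Prime]
    (P : Sylow p M) (hN : Subgroup.normalizer ((P : Subgroup M) : Set M) ≤ P)
    (M₀ : Subgroup M) [M₀.Normal]
    (hle : ⁅(P : Subgroup M), (P : Subgroup M)⁆ ≤ M₀)
    (hfr : M₀ ⊓ (P : Subgroup M) ≤ ⁅(P : Subgroup M), (P : Subgroup M)⁆) :
    ∃ K : Subgroup M, ∀ x, x ∈ K ↔ (orderOf x).Coprime p := by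
  classical
  have hp : p.Prime := Fact.out
  have hπs : Function.Surjective (QuotientGroup.mk' M₀) := QuotientGroup.mk'_surjective M₀
  obtain ⟨Pb, hPb⟩ : ∃ Pb : Sylow p (M ⧸ M₀),
      (Pb : Subgroup (M ⧸ M₀)) = (P : Subgroup M).map (QuotientGroup.mk' M₀) :=
    ⟨P.mapSurjective hπs, Sylow.coe_mapSurjective hπs P⟩
  have hcomm : ∀ a ∈ (Pb : Subgroup (M ⧸ M₀)), ∀ b ∈ (Pb : Subgroup (M ⧸ M₀)),
      a * b = b * a := by
    intro a ha b hb
    rw [hPb] at ha hb
    obtain ⟨x, hx, rfl⟩ := ha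
    obtain ⟨y, hy, rfl⟩ := hb
    have h1 : ⁅x, y⁆ ∈ M₀ := hle (Subgroup.commutator_mem_commutator hx hy)
    have h2 : (QuotientGroup.mk' M₀) ⁅x, y⁆ = 1 := (QuotientGroup.eq_one_iff _).mpr h1
    rw [map_commutatorElement] at h2
    exact commutatorElement_eq_one_iff_mul_comm.mp h2
  have hmemR : ∀ y, y ∈ (P : Subgroup M) ⊔ M₀ ↔
      (QuotientGroup.mk' M₀) y ∈ (Pb : Subgroup (M ⧸ M₀)) := by
    intro y
    rw [hPb, ← Subgroup.mem_comap, Subgroup.comap_map_eq, QuotientGroup.ker_mk']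
  have hNC : Subgroup.normalizer ((Pb : Subgroup (M ⧸ M₀)) : Set (M ⧸ M₀)) ≤
      Subgroup.centralizer ((Pb : Subgroup (M ⧸ M₀)) : Set (M ⧸ M₀)) := by
    intro q hq
    obtain ⟨x, rfl⟩ := hπs q
    have hx1 : ∀ y ∈ (P : Subgroup M) ⊔ M₀, x * y * x⁻¹ ∈ (P : Subgroup M) ⊔ M₀ := by
      intro y hy
      rw [hmemR] at hy ⊢
      rw [map_mul, map_mul, map_inv]
      exact (Subgroup.mem_normalizer_iff.mp hq _).mp hy
    have hPR : (P : Subgroup M) ≤ (P : Subgroup M) ⊔ M₀ := le_sup_left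
    have hxP : ((x • P : Sylow p M) : Subgroup M) ≤ (P : Subgroup M) ⊔ M₀ := by
      rw [Sylow.coe_subgroup_smul]
      rintro - ⟨z, hz, rfl⟩
      exact hx1 z (hPR hz)
    obtain ⟨h, hh⟩ := MulAction.exists_smul_eq ↥((P : Subgroup M) ⊔ M₀)
      ((x • P).subtype hxP) (P.subtype hPR)
    simp_rw [Sylow.smul_subtype, Subgroup.smul_def, smul_smul] at hh
    have hn : (h : M) * x ∈ Subgroup.normalizer ((P : Subgroup M) : Set M) :=
      Sylow.smul_eq_iff_mem_normalizer.mp (Sylow.subtype_injective hh)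
    have hxR : x ∈ (P : Subgroup M) ⊔ M₀ := by
      have h3 : (h : M) * x ∈ (P : Subgroup M) ⊔ M₀ := hPR (hN hn)
      have h4 : x = (h : M)⁻¹ * ((h : M) * x) := by group
      rw [h4]
      exact Subgroup.mul_mem _ (Subgroup.inv_mem _ h.2) h3
    rw [Subgroup.mem_centralizer_iff]
    intro b hb
    exact hcomm b hb _ ((hmemR x).mp hxR)
  have hcompl := MonoidHom.ker_transferSylow_isComplement' Pb hNC
  obtain ⟨Kb, hKb⟩ : ∃ Kb : Subgroup (M ⧸ M₀), Kb = (MonoidHom.transferSylow Pb hNC).ker :=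
    ⟨_, rfl⟩
  rw [← hKb] at hcompl
  have hKbn : Kb.Normal := by rw [hKb]; infer_instance
  have hK1n : (Kb.comap (QuotientGroup.mk' M₀)).Normal := hKbn.comap _
  have hK1P : Kb.comap (QuotientGroup.mk' M₀) ⊓ (P : Subgroup M) ≤
      (frattini P).map (P : Subgroup M).subtype := by
    rintro x ⟨hx1, hx2⟩
    have h1 : (QuotientGroup.mk' M₀) x ∈ Kb ⊓ (Pb : Subgroup (M ⧸ M₀)) :=
      ⟨hx1, by rw [hPb]; exact Subgroup.mem_map_of_mem _ hx2⟩
    have h2 : Kb ⊓ (Pb : Subgroup (M ⧸ M₀)) = ⊥ := hcompl.disjoint.eq_bot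
    rw [h2, Subgroup.mem_bot] at h1
    have h3 : x ∈ M₀ := (QuotientGroup.eq_one_iff x).mp h1
    have h4 : x ∈ ⁅(P : Subgroup M), (P : Subgroup M)⁆ := hfr ⟨h3, hx2⟩
    have h5 : ⁅(P : Subgroup M), (P : Subgroup M)⁆ =
        (commutator ↥(P : Subgroup M)).map (P : Subgroup M).subtype := by
      rw [commutator_def, Subgroup.map_commutator, ← MonoidHom.range_eq_map,
        Subgroup.range_subtype]
    rw [h5] at h4
    exact Subgroup.map_mono
      (Cfsg.Agent.Lib.Helper1.commutator_le_frattini_of_pGroup p P.2) h4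
  obtain ⟨K₂, hK₂⟩ := nx_pPrime_of_hasNormalPComplement
    (Cfsg.Agent.Lib.Helper55.tate_normal_pComplement P (Kb.comap (QuotientGroup.mk' M₀)) hK1P)
  refine ⟨K₂.map (Subgroup.subtype _), fun x => ⟨?_, fun hx => ?_⟩⟩
  · rintro ⟨y, hy, rfl⟩
    have := (hK₂ y).mp hy
    rwa [← Subgroup.orderOf_coe] at this
  · have hx1 : x ∈ Kb.comap (QuotientGroup.mk' M₀) := by
      rw [Subgroup.mem_comap]
      have h1 : (QuotientGroup.mk' M₀ x) ^ Kb.index ∈ Kb := Subgroup.pow_index_mem Kb _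
      have h2 : Kb.index = Nat.card (Pb : Subgroup (M ⧸ M₀)) := hcompl.symm.index_eq_card
      obtain ⟨n, hn⟩ := IsPGroup.iff_card.mp Pb.2
      apply nx_mem_of_pow_mem Kb _ h1
      rw [h2, hn]
      have h3 : orderOf (QuotientGroup.mk' M₀ x) ∣ orderOf x := orderOf_map_dvd _ x
      exact Nat.Coprime.pow_right n (Nat.Coprime.coprime_dvd_left h3 hx)
    refine ⟨⟨x, hx1⟩, (hK₂ _).mpr ?_, rfl⟩
    rwa [Subgroup.orderOf_mk]

/-- If `⟨P^G⟩ ∩ N_G(P) = P` and `⟨[P,P]^G⟩ ∩ N_G(P) = [P,P]`, then `N_G(P)` has a normal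
complement in `G`. -/
theorem nx_exists_normal_complement {G : Type*} [Group G] [Finite G] {p : ℕ} [Fact p.Prime]
    (P : Sylow p G)
    (hM : Subgroup.normalClosure ((P : Subgroup G) : Set G) ⊓
      Subgroup.normalizer ((P : Subgroup G) : Set G) ≤ P)
    (hM₀ : Subgroup.normalClosure ((⁅(P : Subgroup G), (P : Subgroup G)⁆ : Subgroup G) : Set G) ⊓
      Subgroup.normalizer ((P : Subgroup G) : Set G) ≤ ⁅(P : Subgroup G), (P : Subgroup G)⁆) :
    ∃ K : Subgroup G, K.Normal ∧ K ⊔ Subgroup.normalizer ((P : Subgroup G) : Set G) = ⊤ ∧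
      K ⊓ Subgroup.normalizer ((P : Subgroup G) : Set G) = ⊥ := by
  classical
  have hp : p.Prime := Fact.out
  obtain ⟨M, hMdef⟩ : ∃ M : Subgroup G, M = Subgroup.normalClosure ((P : Subgroup G) : Set G) :=
    ⟨_, rfl⟩
  obtain ⟨M₀, hM₀def⟩ : ∃ M₀ : Subgroup G, M₀ =
      Subgroup.normalClosure ((⁅(P : Subgroup G), (P : Subgroup G)⁆ : Subgroup G) : Set G) :=
    ⟨_, rfl⟩
  rw [← hMdef] at hM
  rw [← hM₀def] at hM₀
  have hMn : M.Normal := by rw [hMdef]; infer_instance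
  have hM₀n : M₀.Normal := by rw [hM₀def]; infer_instance
  have hPM : (P : Subgroup G) ≤ M := by rw [hMdef]; exact Subgroup.le_normalClosure
  have hcM₀ : ⁅(P : Subgroup G), (P : Subgroup G)⁆ ≤ M₀ := by
    rw [hM₀def]; exact Subgroup.le_normalClosure
  have hPN : (P : Subgroup G) ≤ Subgroup.normalizer ((P : Subgroup G) : Set G) :=
    Subgroup.le_normalizer
  obtain ⟨PM, hPMcoe⟩ : ∃ PM : Sylow p ↥M,
      (PM : Subgroup ↥M) = (P : Subgroup G).subgroupOf M := ⟨P.subtype hPM, rfl⟩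
  have hPMmap : (PM : Subgroup ↥M).map M.subtype = P := by
    rw [hPMcoe, Subgroup.map_subgroupOf_eq_of_le hPM]
  have hcomm_map : (⁅(PM : Subgroup ↥M), (PM : Subgroup ↥M)⁆).map M.subtype =
      ⁅(P : Subgroup G), (P : Subgroup G)⁆ := by
    rw [Subgroup.map_commutator, hPMmap]
  have hmemPM : ∀ x : ↥M, x ∈ (PM : Subgroup ↥M) ↔ (x : G) ∈ (P : Subgroup G) := by
    intro x; rw [hPMcoe, Subgroup.mem_subgroupOf]
  have hN' : Subgroup.normalizer ((PM : Subgroup ↥M) : Set ↥M) ≤ PM := by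
    intro g hg
    rw [hmemPM]
    apply hM
    refine ⟨g.2, mem_normalizer_of_conj_subset (P : Subgroup G) (g : G) (fun a ha => ?_)⟩
    have h1 : (⟨a, hPM ha⟩ : ↥M) ∈ (PM : Subgroup ↥M) := (hmemPM _).mpr ha
    have h2 := (Subgroup.mem_normalizer_iff.mp hg _).mp h1
    exact (hmemPM _).mp h2
  have hle' : ⁅(PM : Subgroup ↥M), (PM : Subgroup ↥M)⁆ ≤ M₀.subgroupOf M := by
    intro x hx
    rw [Subgroup.mem_subgroupOf]
    apply hcM₀
    rw [← hcomm_map]
    exact ⟨x, hx, rfl⟩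
  have hfr' : M₀.subgroupOf M ⊓ (PM : Subgroup ↥M) ≤
      ⁅(PM : Subgroup ↥M), (PM : Subgroup ↥M)⁆ := by
    rintro x ⟨h1, h2⟩
    have h1' : (x : G) ∈ M₀ := Subgroup.mem_subgroupOf.mp h1
    have h2' : x ∈ (PM : Subgroup ↥M) := h2
    have h3 : (x : G) ∈ ⁅(P : Subgroup G), (P : Subgroup G)⁆ :=
      hM₀ ⟨h1', hPN ((hmemPM x).mp h2')⟩
    rw [← hcomm_map] at h3
    obtain ⟨y, hy, hyx⟩ := h3
    have : y = x := Subtype.ext hyx
    rwa [← this]
  obtain ⟨K', hK'⟩ := nx_pPrime_of_selfNormalizing PM hN' (M₀.subgroupOf M) hle' hfr'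
  have hmemK : ∀ x : G, x ∈ K'.map M.subtype ↔ x ∈ M ∧ (orderOf x).Coprime p := by
    intro x
    constructor
    · rintro ⟨y, hy, rfl⟩
      refine ⟨y.2, ?_⟩
      have := (hK' y).mp hy
      rwa [← Subgroup.orderOf_coe] at this
    · rintro ⟨hx, hc⟩
      refine ⟨⟨x, hx⟩, (hK' _).mpr ?_, rfl⟩
      rwa [Subgroup.orderOf_mk]
  refine ⟨K'.map M.subtype, ?_, ?_, ?_⟩
  · constructor
    intro n hn g
    rw [hmemK] at hn ⊢
    exact ⟨hMn.conj_mem n hn.1 g, by rw [nx_orderOf_conj]; exact hn.2⟩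
  · have h1 : K' ⊔ (PM : Subgroup ↥M) = ⊤ := nx_pPrime_sup_sylow PM K' hK'
    have h2 : K'.map M.subtype ⊔ (P : Subgroup G) = M := by
      rw [← hPMmap, ← Subgroup.map_sup, h1, ← MonoidHom.range_eq_map, Subgroup.range_subtype]
    have h3 : Subgroup.normalizer ((P : Subgroup G) : Set G) ⊔ M = ⊤ :=
      Sylow.normalizer_sup_eq_top' P hPM
    rw [eq_top_iff, ← h3]
    refine sup_le le_sup_right ?_
    exact (le_of_eq h2.symm).trans (sup_le_sup_left hPN _)
  · rw [eq_bot_iff]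
    rintro x ⟨hxK, hxN⟩
    obtain ⟨hxM, hc⟩ := (hmemK x).mp hxK
    have hxP : x ∈ (P : Subgroup G) := hM ⟨hxM, hxN⟩
    obtain ⟨k, hk⟩ := P.2 ⟨x, hxP⟩
    have hk' : x ^ p ^ k = 1 := by
      have := congrArg Subtype.val hk
      simpa using this
    have h1 : orderOf x ∣ p ^ k := orderOf_dvd_of_pow_eq_one hk'
    have h2 : orderOf x = 1 := Nat.Coprime.eq_one_of_dvd (Nat.Coprime.pow_right k hc) h1
    rw [Subgroup.mem_bot]
    exact orderOf_eq_one_iff.mp h2

end Cfsg.Agent.Lib.Helper15
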