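import Mathlib
import Cfsg.Prelude.Def_Characters
import Cfsg.Agent.Lib.Helper75.Glaub8
import Cfsg.Agent.Lib.Helper75.CoprimeDeg
import Cfsg.Agent.Lib.Helper80.ItoConverse
import Cfsg.Agent.Lib.Helper80.Codegree
import Cfsg.Agent.Lib.Helper80.CharOps
import Cfsg.Agent.Lib.Helper80.CharKer
import Cfsg.Agent.Lib.Helper15.LinChar

/-!
# Characters of `p'`-degree and normal `p'`-subgroups without fixed points

* `od_ker_of_fpf`: if the `p`-subgroup `P` has no fixed points on the normal subgroup `K` of order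
  prime to `p`, every irreducible character of `p'`-degree is trivial on `K` (Glauberman count).
* `od_comm_le_ker`: a `p'`-degree irreducible character is trivial on the commutator subgroup of a
  normal `p`-subgroup.
* `od_sq_sum_le`: sum of squares of `p'`-degrees of `G` versus the degrees of `N/D`.
-/

set_option autoImplicit false
set_option linter.style.haveILetI false

namespace Cfsg.Agent.Lib.Helper15

open Cfsg.Agent.Lib.Helper80
open Cfsg.Agent.Lib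

universe u

/-- If the `p`-subgroup `P` has no nontrivial fixed points on the normal subgroup `K` (of order
prime to `p`), then every irreducible character of `G` of degree prime to `p` is trivial on `K`. -/
theorem od_ker_of_fpf {G : Type u} [Group G] [Finite G] (p : ℕ) [Fact p.Prime]
    (K P : Subgroup G) [hK : K.Normal]
    (hP : IsPGroup p P) (hcop : (Nat.card K).Coprime (Nat.card P))
    (hfix : ∀ k ∈ K, (∀ u ∈ P, u * k = k * u) → k = 1)
    {χ : G → ℂ} (hχ : Cfsg.IsIrrCharacter G χ) (hdeg : ¬ p ∣ Cfsg.charDegree χ) :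
    ∀ k ∈ K, χ k = χ 1 := by
  classical
  haveI : Fintype G := Fintype.ofFinite G
  haveI : Fintype K := Fintype.ofFinite K
  haveI : Fintype (Cfsg.IrrCharacter K) := Fintype.ofFinite _
  have hp : p.Prime := Fact.out
  obtain ⟨θ, hθ, hne⟩ := Helper75.exists_constituent_res K hχ
  obtain ⟨e, he⟩ := charDegree_eq_mul_index_inertia K hχ hθ hne
  have hidx : ¬ p ∣ Nat.card (G ⧸ Helper75.inertia K θ) := by
    intro h
    apply hdeg
    rw [he]
    exact Dvd.dvd.mul_right (Dvd.dvd.mul_left h e) _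
  obtain ⟨q, hq⟩ := hP.nonempty_fixed_point_of_prime_not_dvd_card (G ⧸ Helper75.inertia K θ) hidx
  obtain ⟨x, rfl⟩ := QuotientGroup.mk_surjective q
  have hxI : ∀ u ∈ P, x⁻¹ * u * x ∈ Helper75.inertia K θ := by
    intro u hu
    have h1 := hq ⟨u, hu⟩
    have h2 : ((u * x : G) : G ⧸ Helper75.inertia K θ) = (x : G ⧸ Helper75.inertia K θ) := h1
    rw [QuotientGroup.eq] at h2
    have h3 := Subgroup.inv_mem _ h2
    have h4 : ((u * x)⁻¹ * x)⁻¹ = x⁻¹ * u * x := by group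
    rwa [h4] at h3
  have hφinv : Helper75.InvS K P (Helper75.conjChar K θ x) := by
    intro s hs g g' hg'
    have hm1 : x⁻¹ * (g' : G) * x ∈ K := by
      have := hK.conj_mem g' g'.2 x⁻¹
      simpa using this
    have hm2 : x⁻¹ * (g : G) * x ∈ K := by
      have := hK.conj_mem g g.2 x⁻¹
      simpa using this
    rw [Helper75.conjChar_val K θ x g' hm1, Helper75.conjChar_val K θ x g hm2]
    have h5 := (Helper75.mem_inertia_iff' K θ (x⁻¹ * s * x)).mp (hxI s hs) ⟨x⁻¹ * g * x, hm2⟩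
    rw [← h5]
    congr 1
    apply Subtype.ext
    show x⁻¹ * (g' : G) * x = x⁻¹ * s * x * (x⁻¹ * g * x) * (x⁻¹ * s * x)⁻¹
    rw [hg']; group
  have hφ : Cfsg.IsIrrCharacter K (Helper75.conjChar K θ x) :=
    Helper75.isIrrCharacter_conjChar K hθ x
  haveI : Group.IsNilpotent P := hP.isNilpotent
  have hcard := Helper75.card_inv_irr_eq_solvable K P (fun s _ g hg => hK.conj_mem g hg s) hcop
    inferInstance
  have hbot : ∀ c : ↥(K ⊓ Subgroup.centralizer (P : Set G)), c = 1 := by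
    intro c
    apply Subtype.ext
    apply hfix c c.2.1
    intro u hu
    exact Subgroup.mem_centralizer_iff.mp c.2.2 u hu
  haveI : Subsingleton ↥(K ⊓ Subgroup.centralizer (P : Set G)) :=
    ⟨fun a b => by rw [hbot a, hbot b]⟩
  have hone : Nat.card (Cfsg.IrrCharacter ↥(K ⊓ Subgroup.centralizer (P : Set G))) = 1 := by
    rw [Nat.card_eq_one_iff_unique]
    refine ⟨⟨fun a b => ?_⟩, ⟨trivIrr _⟩⟩
    apply Subtype.ext
    rw [eq_one_of_forall_eq a.2 (fun g => by rw [Subsingleton.elim g 1]),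
      eq_one_of_forall_eq b.2 (fun g => by rw [Subsingleton.elim g 1])]
  rw [hone] at hcard
  have hsub : Subsingleton {χ : Cfsg.IrrCharacter K // Helper75.InvS K P (χ : K → ℂ)} :=
    (Nat.card_eq_one_iff_unique.mp hcard).1
  have htriv : Helper75.InvS K P ((trivIrr K : Cfsg.IrrCharacter K) : K → ℂ) :=
    fun _ _ _ _ _ => rfl
  have heq : (⟨⟨_, hφ⟩, hφinv⟩ : {χ : Cfsg.IrrCharacter K // Helper75.InvS K P (χ : K → ℂ)}) =
      ⟨trivIrr K, htriv⟩ := Subsingleton.elim _ _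
  have hφ1 : Helper75.conjChar K θ x = fun _ => (1 : ℂ) :=
    congrArg (fun t : {χ : Cfsg.IrrCharacter K // Helper75.InvS K P (χ : K → ℂ)} =>
      ((t.1 : Cfsg.IrrCharacter K) : K → ℂ)) heq
  have hθ1 : θ = fun _ => (1 : ℂ) := by
    funext n
    have hm : x * (n : G) * x⁻¹ ∈ K := hK.conj_mem n n.2 x
    have hm' : x⁻¹ * ((⟨x * n * x⁻¹, hm⟩ : K) : G) * x ∈ K := by
      have : x⁻¹ * (x * (n : G) * x⁻¹) * x = n := by group
      rw [this]; exact n.2
    have h6 := Helper75.conjChar_val K θ x ⟨x * n * x⁻¹, hm⟩ hm'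
    rw [hφ1] at h6
    have h7 : (⟨x⁻¹ * ((⟨x * n * x⁻¹, hm⟩ : K) : G) * x, hm'⟩ : K) = n := by
      apply Subtype.ext
      show x⁻¹ * (x * (n : G) * x⁻¹) * x = n
      group
    rw [h7] at h6
    exact h6.symm
  obtain ⟨m, hm, hsum⟩ := character_expansion
    (isCharacter_restrict K (isCharacter_of_isIrrCharacter hχ))
  have hval : ∀ k : K, χ k = (m (trivIrr K) : ℂ) := by
    intro k
    have h8 := congrFun hsum k
    simp only [Finset.sum_apply, Pi.smul_apply, smul_eq_mul] at h8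
    rw [h8, Finset.sum_eq_single (trivIrr K)]
    · rw [trivIrr_apply, mul_one]
    · intro τ _ hτ
      have h0 : m τ = 0 := by
        by_contra h0
        have h9 : Cfsg.classInner (fun n : K => χ n) (τ : K → ℂ) ≠ 0 := by
          rw [hm τ]; exact_mod_cast h0
        obtain ⟨g, hg⟩ := Helper75.clifford_conj K hχ hθ τ.2 hne h9
        apply hτ
        apply Subtype.ext
        rw [← hg, hθ1]
        rfl
      rw [h0]; simp
    · intro h; exact absurd (Finset.mem_univ _) h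
  intro k hk
  have h10 := hval ⟨k, hk⟩
  have h11 := hval 1
  rw [show ((⟨k, hk⟩ : K) : G) = k from rfl] at h10
  rw [show (((1 : K)) : G) = 1 from rfl] at h11
  rw [h10, h11]


open scoped commutatorElement in
/-- An irreducible character of `p'`-degree is trivial on the commutator subgroup of a normal
`p`-subgroup. -/
theorem od_comm_le_ker {G : Type u} [Group G] [Finite G] (p : ℕ) [Fact p.Prime]
    (Q : Subgroup G) [hQn : Q.Normal] (hQ : IsPGroup p Q)
    {χ : G → ℂ} (hχ : Cfsg.IsIrrCharacter G χ) (hdeg : ¬ p ∣ Cfsg.charDegree χ) :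
    ∀ d ∈ ⁅Q, Q⁆, χ d = χ 1 := by
  classical
  haveI : Fintype G := Fintype.ofFinite G
  haveI : Fintype Q := Fintype.ofFinite Q
  haveI : Fintype (Cfsg.IrrCharacter Q) := Fintype.ofFinite _
  have hp : p.Prime := Fact.out
  obtain ⟨m, hm, hsum⟩ := character_expansion
    (isCharacter_restrict Q (isCharacter_of_isIrrCharacter hχ))
  have hlin : ∀ τ : Cfsg.IrrCharacter Q, m τ ≠ 0 → (τ : Q → ℂ) 1 = 1 := by
    intro τ hτ
    have h9 : Cfsg.classInner (fun n : Q => χ n) (τ : Q → ℂ) ≠ 0 := by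
      rw [hm τ]; exact_mod_cast hτ
    obtain ⟨e, he⟩ := charDegree_eq_mul_index_inertia Q hχ τ.2 h9
    have h1 : Cfsg.charDegree (τ : Q → ℂ) ∣ Nat.card Q := charDegree_dvd_card τ.2
    obtain ⟨n, hn⟩ := hQ.exists_card_eq
    rw [hn] at h1
    obtain ⟨j, -, hj⟩ := (Nat.dvd_prime_pow hp).mp h1
    have hj0 : j = 0 := by
      by_contra hj0
      apply hdeg
      rw [he, hj]
      exact Dvd.dvd.mul_left (dvd_pow_self p hj0) _
    rw [hj0, pow_zero] at hj
    rw [char_one_eq_charDegree (isCharacter_of_isIrrCharacter τ.2), hj]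
    simp
  have hval : ∀ c : Q, (∀ τ : Cfsg.IrrCharacter Q, m τ ≠ 0 → (τ : Q → ℂ) c = 1) →
      χ c = ∑ τ : Cfsg.IrrCharacter Q, (m τ : ℂ) := by
    intro c hc
    have h8 := congrFun hsum c
    simp only [Finset.sum_apply, Pi.smul_apply, smul_eq_mul] at h8
    rw [h8]
    apply Finset.sum_congr rfl
    intro τ _
    by_cases h0 : m τ = 0
    · rw [h0]; simp
    · rw [hc τ h0, mul_one]
  obtain ⟨Kχ, hKn, hKmem⟩ := exists_ker_subgroup (isCharacter_of_isIrrCharacter hχ)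
  have hle : ⁅Q, Q⁆ ≤ Kχ := by
    rw [Subgroup.commutator_le]
    intro x hx y hy
    rw [hKmem]
    have hc : ⁅x, y⁆ ∈ Q := Subgroup.commutator_le_left Q Q (Subgroup.commutator_mem_commutator hx hy)
    have h1 := hval ⟨⁅x, y⁆, hc⟩ (fun τ hτ => by
      have hτc := isCharacter_of_isIrrCharacter τ.2
      have h3 : (⟨⁅x, y⁆, hc⟩ : Q) = ⁅(⟨x, hx⟩ : Q), ⟨y, hy⟩⁆ := Subtype.ext rfl
      rw [h3, ← linCharHom_apply hτc (hlin τ hτ), map_commutatorElement,
        commutatorElement_eq_one_iff_commute.mpr (Commute.all _ _)]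
      rfl)
    have h2 := hval 1 (fun τ hτ => hlin τ hτ)
    have h1' : χ ⁅x, y⁆ = ∑ τ : Cfsg.IrrCharacter Q, (m τ : ℂ) := h1
    have h2' : χ 1 = ∑ τ : Cfsg.IrrCharacter Q, (m τ : ℂ) := h2
    rw [h1', h2']
  intro d hd
  exact (hKmem d).mp (hle hd)

/-- Over a `p'`-degree irreducible character of a subgroup of `p'`-index lies an irreducible
character of `p'`-degree. -/
theorem od_exists_over {G : Type u} [Group G] [Finite G] (p : ℕ) [Fact p.Prime] (N : Subgroup G)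
    [Fintype N] (hidx : ¬ p ∣ N.index) {θ : N → ℂ} (hθ : Cfsg.IsIrrCharacter N θ)
    (hdeg : ¬ p ∣ Cfsg.charDegree θ) :
    ∃ χ : Cfsg.IrrCharacter G, ¬ p ∣ Cfsg.charDegree (χ : G → ℂ) ∧
      Cfsg.classInner (fun n : N => (χ : G → ℂ) n) θ ≠ 0 := by
  classical
  haveI : Fintype G := Fintype.ofFinite G
  haveI : Fintype (Cfsg.IrrCharacter G) := Fintype.ofFinite _
  have hp : p.Prime := Fact.out
  have hθc := isCharacter_of_isIrrCharacter hθ
  have hφ : Cfsg.IsCharacter G (Cfsg.indFun N θ) := isCharacter_indFun N hθc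
  obtain ⟨m, hm, hsum⟩ := character_expansion hφ
  have hd := charDegree_eq_sum hφ m hsum
  have hd2 : Cfsg.charDegree (Cfsg.indFun N θ) = N.index * Cfsg.charDegree θ := by
    have h1 := char_one_eq_charDegree hφ
    rw [indFun_one, char_one_eq_charDegree hθc] at h1
    exact_mod_cast h1.symm
  by_contra hcon
  push Not at hcon
  apply Nat.Prime.not_dvd_mul hp hidx hdeg
  rw [← hd2, hd]
  apply Finset.dvd_sum
  intro χ _
  by_cases h0 : m χ = 0
  · rw [h0, zero_mul]; exact dvd_zero p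
  · apply Dvd.dvd.mul_left
    by_contra hndvd
    apply h0
    have h1 := hcon χ hndvd
    have h2 := frobenius_reciprocity N θ (χ : G → ℂ)
      (isClassFunction_of_isCharacter (isCharacter_of_isIrrCharacter χ.2))
    have h3 := classInner_conj_symm (fun n : N => (χ : G → ℂ) n) θ
    rw [h1, map_zero] at h3
    rw [← h3] at h2
    rw [hm χ] at h2
    exact_mod_cast h2

/-- A counting lemma for multiplicity matrices. -/
theorem od_count {ι κ : Type*} (O : Finset κ) (F : Finset ι) (d : κ → ℕ) (c : ι → ℕ)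
    (m : κ → ι → ℕ) (h1 : ∀ χ ∈ O, ∑ θ ∈ F, m χ θ * c θ ≤ d χ)
    (h2 : ∀ θ ∈ F, ∃ χ ∈ O, 1 ≤ m χ θ) :
    ∑ θ ∈ F, c θ ^ 2 ≤ ∑ χ ∈ O, d χ ^ 2 ∧
    (∑ θ ∈ F, c θ ^ 2 = ∑ χ ∈ O, d χ ^ 2 →
      ∀ θ ∈ F, 0 < c θ → ∃ χ ∈ O, 1 ≤ m χ θ ∧ d χ = c θ) := by
  classical
  have h3 : ∀ χ ∈ O, ∀ θ ∈ F, m χ θ * c θ ≤ d χ := fun χ hχ θ hθ =>
    le_trans (Finset.single_le_sum (f := fun θ => m χ θ * c θ) (fun _ _ => Nat.zero_le _) hθ)
      (h1 χ hχ)
  have h4 : ∀ χ ∈ O, ∀ θ, m χ θ * d χ ≤ ∑ χ ∈ O, m χ θ * d χ := fun χ hχ θ =>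
    Finset.single_le_sum (f := fun χ => m χ θ * d χ) (fun _ _ => Nat.zero_le _) hχ
  have hB : ∀ θ ∈ F, c θ ≤ ∑ χ ∈ O, m χ θ * d χ := by
    intro θ hθ
    obtain ⟨χ, hχ, hm⟩ := h2 θ hθ
    calc c θ ≤ m χ θ * c θ := Nat.le_mul_of_pos_left _ hm
      _ ≤ d χ := h3 χ hχ θ hθ
      _ ≤ m χ θ * d χ := Nat.le_mul_of_pos_left _ hm
      _ ≤ _ := h4 χ hχ θ
  have hterm : ∀ θ ∈ F, c θ ^ 2 ≤ c θ * ∑ χ ∈ O, m χ θ * d χ := by
    intro θ hθ
    rw [sq]
    exact Nat.mul_le_mul_left _ (hB θ hθ)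
  have e1 : ∑ θ ∈ F, c θ ^ 2 ≤ ∑ θ ∈ F, c θ * ∑ χ ∈ O, m χ θ * d χ :=
    Finset.sum_le_sum hterm
  have e2 : ∑ θ ∈ F, c θ * ∑ χ ∈ O, m χ θ * d χ = ∑ χ ∈ O, d χ * ∑ θ ∈ F, m χ θ * c θ := by
    simp_rw [Finset.mul_sum]
    rw [Finset.sum_comm]
    apply Finset.sum_congr rfl
    intro χ _
    apply Finset.sum_congr rfl
    intro θ _
    ring
  have e3 : ∑ χ ∈ O, d χ * ∑ θ ∈ F, m χ θ * c θ ≤ ∑ χ ∈ O, d χ ^ 2 := by
    apply Finset.sum_le_sum
    intro χ hχ
    rw [sq]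
    exact Nat.mul_le_mul_left _ (h1 χ hχ)
  refine ⟨e1.trans (e2.le.trans e3), ?_⟩
  intro heq θ hθ hpos
  have e1' : ∑ θ ∈ F, c θ ^ 2 = ∑ θ ∈ F, c θ * ∑ χ ∈ O, m χ θ * d χ := by
    apply le_antisymm e1
    rw [e2, heq]
    exact e3
  have h5 := (Finset.sum_eq_sum_iff_of_le hterm).mp e1' θ hθ
  have h6 : c θ = ∑ χ ∈ O, m χ θ * d χ := by
    rw [sq] at h5
    exact Nat.eq_of_mul_eq_mul_left hpos h5
  obtain ⟨χ, hχ, hm⟩ := h2 θ hθ
  refine ⟨χ, hχ, hm, ?_⟩
  have h7 : m χ θ * d χ ≤ c θ := le_trans (h4 χ hχ θ) (le_of_eq h6.symm)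
  apply le_antisymm
  · exact le_trans (Nat.le_mul_of_pos_left _ hm) h7
  · exact le_trans (Nat.le_mul_of_pos_left _ hm) (h3 χ hχ θ hθ)


/-- The sum of squares of the `p'`-degrees as a finite sum over a filter. -/
theorem od_finsum_eq {G : Type u} [Group G] [Finite G] (p : ℕ)
    [Fintype (Cfsg.IrrCharacter G)]
    [DecidablePred fun χ : Cfsg.IrrCharacter G => ¬ p ∣ Cfsg.charDegree (χ : G → ℂ)] :
    ∑ᶠ χ : {χ : Cfsg.IrrCharacter G // ¬ p ∣ Cfsg.charDegree (χ : G → ℂ)},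
        Cfsg.charDegree (χ.1 : G → ℂ) ^ 2 =
      ∑ χ ∈ Finset.univ.filter (fun χ : Cfsg.IrrCharacter G =>
        ¬ p ∣ Cfsg.charDegree (χ : G → ℂ)), Cfsg.charDegree (χ : G → ℂ) ^ 2 := by
  classical
  rw [finsum_eq_sum_of_fintype]
  exact (Finset.sum_subtype
    (p := fun χ : Cfsg.IrrCharacter G => ¬ p ∣ Cfsg.charDegree (χ : G → ℂ))
    (Finset.univ.filter (fun χ : Cfsg.IrrCharacter G =>
    ¬ p ∣ Cfsg.charDegree (χ : G → ℂ))) (by simp) (fun χ : Cfsg.IrrCharacter G =>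
    Cfsg.charDegree (χ : G → ℂ) ^ 2)).symm

/-- If `N` has `p'`-index and every irreducible character of `N` trivial on `D` has `p'`-degree,
then `|N : D|` is at most the sum of the squares of the `p'`-degrees of `G`; in case of equality
every irreducible character of `N` trivial on `D` extends to `G`. -/
theorem od_index_le {G : Type u} [Group G] [Finite G] (p : ℕ) [Fact p.Prime] (N : Subgroup G)
    (D : Subgroup ↥N) [D.Normal] (hidx : ¬ p ∣ N.index)
    (hdeg : ∀ θ : Cfsg.IrrCharacter ↥N, (∀ x ∈ D, (θ : ↥N → ℂ) x = (θ : ↥N → ℂ) 1) →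
      ¬ p ∣ Cfsg.charDegree (θ : ↥N → ℂ)) :
    D.index ≤ ∑ᶠ χ : {χ : Cfsg.IrrCharacter G // ¬ p ∣ Cfsg.charDegree (χ : G → ℂ)},
        Cfsg.charDegree (χ.1 : G → ℂ) ^ 2 ∧
    (D.index = ∑ᶠ χ : {χ : Cfsg.IrrCharacter G // ¬ p ∣ Cfsg.charDegree (χ : G → ℂ)},
        Cfsg.charDegree (χ.1 : G → ℂ) ^ 2 →
      ∀ θ : Cfsg.IrrCharacter ↥N, (∀ x ∈ D, (θ : ↥N → ℂ) x = (θ : ↥N → ℂ) 1) →
        ∃ χ : Cfsg.IrrCharacter G, ∀ x : ↥N, (χ : G → ℂ) x = (θ : ↥N → ℂ) x) := by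
  classical
  haveI : Fintype G := Fintype.ofFinite G
  haveI : Fintype N := Fintype.ofFinite N
  haveI : Fintype (Cfsg.IrrCharacter G) := Fintype.ofFinite _
  haveI : Fintype (Cfsg.IrrCharacter N) := Fintype.ofFinite _
  rw [od_finsum_eq p, ← sum_charDegree_sq_filter_ker D]
  choose m hm hexp using fun χ : Cfsg.IrrCharacter G => character_expansion
    (isCharacter_restrict N (isCharacter_of_isIrrCharacter χ.2))
  have key := od_count
    (Finset.univ.filter (fun χ : Cfsg.IrrCharacter G => ¬ p ∣ Cfsg.charDegree (χ : G → ℂ)))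
    (Finset.univ.filter (fun θ : Cfsg.IrrCharacter N =>
      ∀ x ∈ D, (θ : N → ℂ) x = (θ : N → ℂ) 1))
    (fun χ => Cfsg.charDegree (χ : G → ℂ)) (fun θ => Cfsg.charDegree (θ : N → ℂ)) m ?_ ?_
  · refine ⟨key.1, fun heq θ hθD => ?_⟩
    obtain ⟨χ, hχ, hm1, hd⟩ := key.2 heq θ (Finset.mem_filter.mpr ⟨Finset.mem_univ _, hθD⟩)
      (charDegree_pos θ.2)
    refine ⟨χ, fun x => ?_⟩
    have h1 := eq_of_constituent_of_degree_le
      (isCharacter_restrict N (isCharacter_of_isIrrCharacter χ.2)) θ.2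
      (by rw [hm χ θ]; exact_mod_cast (Nat.one_le_iff_ne_zero.mp hm1)) (le_of_eq hd)
    exact congrFun h1 x
  · intro χ _
    have h1 := charDegree_eq_sum (isCharacter_restrict N (isCharacter_of_isIrrCharacter χ.2))
      (m χ) (hexp χ)
    have h2 : Cfsg.charDegree (fun x : N => (χ : G → ℂ) x) = Cfsg.charDegree (χ : G → ℂ) := rfl
    rw [h2] at h1
    rw [h1]
    exact Finset.sum_le_sum_of_subset (Finset.filter_subset _ _)
  · intro θ hθ
    rw [Finset.mem_filter] at hθ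
    obtain ⟨χ, hχ1, hχ2⟩ := od_exists_over p N hidx θ.2 (hdeg θ hθ.2)
    refine ⟨χ, by simp [hχ1], ?_⟩
    rw [Nat.one_le_iff_ne_zero]
    intro h0
    apply hχ2
    rw [hm χ θ, h0]
    simp

/-- A complement `N` of the normal subgroup `K` is isomorphic to `G ⧸ K`. -/
theorem od_complement_equiv {G : Type u} [Group G] (N K : Subgroup G) [K.Normal]
    (hsup : K ⊔ N = ⊤) (hinf : K ⊓ N = ⊥) :
    ∃ e : ↥N ≃* G ⧸ K, ∀ a : ↥N, e a = ((a : G) : G ⧸ K) := by
  obtain ⟨φ, hφ⟩ : ∃ φ : ↥N →* G ⧸ K, ∀ a : ↥N, φ a = (QuotientGroup.mk' K) (a : G) :=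
    ⟨(QuotientGroup.mk' K).comp N.subtype, fun a => rfl⟩
  have hinj : Function.Injective φ := by
    rw [injective_iff_map_eq_one]
    intro a ha
    rw [hφ] at ha
    have h1 : (a : G) ∈ K := (QuotientGroup.eq_one_iff _).mp ha
    have h2 : (a : G) ∈ K ⊓ N := ⟨h1, a.2⟩
    rw [hinf, Subgroup.mem_bot] at h2
    exact Subtype.ext h2
  have hsurj : Function.Surjective φ := by
    intro q
    obtain ⟨g, rfl⟩ := QuotientGroup.mk'_surjective K q
    have hg : g ∈ K ⊔ N := by rw [hsup]; exact Subgroup.mem_top g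
    obtain ⟨k, hk, n, hn, rfl⟩ := Subgroup.mem_sup_of_normal_left.mp hg
    refine ⟨⟨n, hn⟩, ?_⟩
    have hk1 : (QuotientGroup.mk' K) k = 1 := (QuotientGroup.eq_one_iff k).mpr hk
    rw [hφ, map_mul, hk1, one_mul]
  exact ⟨MulEquiv.ofBijective φ ⟨hinj, hsurj⟩, fun a => hφ a⟩

/-- If `G = K ⋊ N`, the `p'`-degree characters of `G` are trivial on `K` and the `p'`-degree
characters of `N` are trivial on `D`, then the sum of the squares of the `p'`-degrees of `G` is at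
most `|N : D|`. -/
theorem od_sum_le_index {G : Type u} [Group G] [Finite G] (p : ℕ) (N K : Subgroup G)
    [K.Normal] (hsup : K ⊔ N = ⊤) (hinf : K ⊓ N = ⊥) (D : Subgroup ↥N) [D.Normal]
    (hker : ∀ χ : Cfsg.IrrCharacter G, ¬ p ∣ Cfsg.charDegree (χ : G → ℂ) →
      ∀ k ∈ K, (χ : G → ℂ) k = (χ : G → ℂ) 1)
    (hD : ∀ θ : Cfsg.IrrCharacter ↥N, ¬ p ∣ Cfsg.charDegree (θ : ↥N → ℂ) →
      ∀ x ∈ D, (θ : ↥N → ℂ) x = (θ : ↥N → ℂ) 1) :
    ∑ᶠ χ : {χ : Cfsg.IrrCharacter G // ¬ p ∣ Cfsg.charDegree (χ : G → ℂ)},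
        Cfsg.charDegree (χ.1 : G → ℂ) ^ 2 ≤ D.index := by
  classical
  haveI : Fintype G := Fintype.ofFinite G
  haveI : Fintype N := Fintype.ofFinite N
  haveI : Fintype (Cfsg.IrrCharacter G) := Fintype.ofFinite _
  haveI : Fintype (Cfsg.IrrCharacter N) := Fintype.ofFinite _
  rw [od_finsum_eq p, ← sum_charDegree_sq_filter_ker D]
  obtain ⟨e, he⟩ := od_complement_equiv N K hsup hinf
  have hdefl : ∀ χ : Cfsg.IrrCharacter G, ¬ p ∣ Cfsg.charDegree (χ : G → ℂ) →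
      ∃ ψ : G ⧸ K → ℂ, Cfsg.IsIrrCharacter (G ⧸ K) ψ ∧
        ∀ g : G, ψ (g : G ⧸ K) = (χ : G → ℂ) g :=
    fun χ hχ => exists_isIrrCharacter_deflate (N := K) χ.2 (hker χ hχ)
  have hres : ∀ χ : Cfsg.IrrCharacter G, ¬ p ∣ Cfsg.charDegree (χ : G → ℂ) →
      Cfsg.IsIrrCharacter N (fun x : N => (χ : G → ℂ) x) := by
    intro χ hχ
    obtain ⟨ψ, hψ, hψv⟩ := hdefl χ hχ
    have h1 := isIrrCharacter_comp_mulEquiv e hψ
    have heq : (fun x : N => (χ : G → ℂ) x) = fun x => ψ (e x) := by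
      funext x
      rw [he]
      exact (hψv x).symm
    rw [heq]
    exact h1
  have hval : ∀ χ : Cfsg.IrrCharacter G, ¬ p ∣ Cfsg.charDegree (χ : G → ℂ) →
      ∀ k ∈ K, ∀ g : G, (χ : G → ℂ) (k * g) = (χ : G → ℂ) g := by
    intro χ hχ k hk g
    obtain ⟨ψ, hψ, hψv⟩ := hdefl χ hχ
    rw [← hψv, ← hψv]
    congr 1
    have hk1 : ((k : G) : G ⧸ K) = 1 := (QuotientGroup.eq_one_iff k).mpr hk
    rw [QuotientGroup.mk_mul, hk1, one_mul]
  obtain ⟨gm, hgm⟩ : ∃ gm : Cfsg.IrrCharacter G → Cfsg.IrrCharacter N,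
      ∀ χ : Cfsg.IrrCharacter G, ¬ p ∣ Cfsg.charDegree (χ : G → ℂ) →
        (gm χ : N → ℂ) = fun x : N => (χ : G → ℂ) x := by
    refine ⟨fun χ => if h : Cfsg.IsIrrCharacter N (fun x : N => (χ : G → ℂ) x) then ⟨_, h⟩
      else trivIrr N, fun χ hχ => ?_⟩
    dsimp only
    rw [dif_pos (hres χ hχ)]
  have hinj : ∀ χ ∈ Finset.univ.filter (fun χ : Cfsg.IrrCharacter G =>
      ¬ p ∣ Cfsg.charDegree (χ : G → ℂ)), ∀ χ' ∈ Finset.univ.filter (fun χ : Cfsg.IrrCharacter G =>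
      ¬ p ∣ Cfsg.charDegree (χ : G → ℂ)), gm χ = gm χ' → χ = χ' := by
    intro χ hχ χ' hχ' heq
    rw [Finset.mem_filter] at hχ hχ'
    apply Subtype.ext
    funext g
    have hg : g ∈ K ⊔ N := by rw [hsup]; exact Subgroup.mem_top g
    obtain ⟨k, hk, n, hn, rfl⟩ := Subgroup.mem_sup_of_normal_left.mp hg
    rw [hval χ hχ.2 k hk n, hval χ' hχ'.2 k hk n]
    have h1 := congrFun (hgm χ hχ.2) ⟨n, hn⟩
    have h2 := congrFun (hgm χ' hχ'.2) ⟨n, hn⟩
    rw [heq] at h1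
    rw [h2] at h1
    exact h1.symm
  have hdegeq : ∀ χ : Cfsg.IrrCharacter G, ¬ p ∣ Cfsg.charDegree (χ : G → ℂ) →
      Cfsg.charDegree (gm χ : N → ℂ) = Cfsg.charDegree (χ : G → ℂ) := by
    intro χ hχ
    rw [hgm χ hχ]
    rfl
  calc ∑ χ ∈ Finset.univ.filter (fun χ : Cfsg.IrrCharacter G =>
        ¬ p ∣ Cfsg.charDegree (χ : G → ℂ)), Cfsg.charDegree (χ : G → ℂ) ^ 2
      = ∑ χ ∈ Finset.univ.filter (fun χ : Cfsg.IrrCharacter G =>
        ¬ p ∣ Cfsg.charDegree (χ : G → ℂ)), Cfsg.charDegree (gm χ : N → ℂ) ^ 2 := by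
        apply Finset.sum_congr rfl
        intro χ hχ
        rw [Finset.mem_filter] at hχ
        rw [hdegeq χ hχ.2]
    _ = ∑ θ ∈ (Finset.univ.filter (fun χ : Cfsg.IrrCharacter G =>
        ¬ p ∣ Cfsg.charDegree (χ : G → ℂ))).image gm, Cfsg.charDegree (θ : N → ℂ) ^ 2 :=
        (Finset.sum_image (f := fun θ : Cfsg.IrrCharacter N =>
          Cfsg.charDegree (θ : N → ℂ) ^ 2) hinj).symm
    _ ≤ _ := by
        apply Finset.sum_le_sum_of_subset
        intro θ hθ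
        rw [Finset.mem_image] at hθ
        obtain ⟨χ, hχ, rfl⟩ := hθ
        rw [Finset.mem_filter] at hχ
        rw [Finset.mem_filter]
        refine ⟨Finset.mem_univ _, hD (gm χ) ?_⟩
        rw [hdegeq χ hχ.2]
        exact hχ.2

/-- A normal subgroup meeting a Sylow `p`-subgroup trivially has order prime to `p`. -/
theorem od_coprime_of_inf_sylow {G : Type u} [Group G] [Finite G] (p : ℕ) [Fact p.Prime]
    (P : Sylow p G) (K : Subgroup G) [K.Normal] (hinf : K ⊓ (P : Subgroup G) = ⊥) :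
    (Nat.card K).Coprime (Nat.card (P : Subgroup G)) := by
  have hp : p.Prime := Fact.out
  have hinj : Function.Injective ((QuotientGroup.mk' K).comp (P : Subgroup G).subtype) := by
    rw [injective_iff_map_eq_one]
    intro a ha
    have h1 : (a : G) ∈ K := (QuotientGroup.eq_one_iff _).mp ha
    have h2 : (a : G) ∈ K ⊓ (P : Subgroup G) := ⟨h1, a.2⟩
    rw [hinf, Subgroup.mem_bot] at h2
    exact Subtype.ext h2
  have h1 : Nat.card (P : Subgroup G) ∣ Nat.card (G ⧸ K) := Subgroup.card_dvd_of_injective _ hinj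
  have h2 : Nat.card K * Nat.card (G ⧸ K) = Nat.card G := by
    rw [mul_comm]
    exact (Subgroup.card_eq_card_quotient_mul_card_subgroup K).symm
  have h3 : Nat.card (P : Subgroup G) * (P : Subgroup G).index = Nat.card G :=
    Subgroup.card_mul_index _
  have hnd : ¬ p ∣ Nat.card K := by
    intro hdvd
    apply P.not_dvd_index
    obtain ⟨a, ha⟩ := hdvd
    obtain ⟨b, hb⟩ := h1
    have hpos : 0 < Nat.card (P : Subgroup G) := Nat.card_pos
    have h4 : Nat.card (P : Subgroup G) * (P : Subgroup G).index =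
        Nat.card (P : Subgroup G) * (p * (a * b)) := by
      rw [h3, ← h2, ha, hb]; ring
    have h5 := Nat.eq_of_mul_eq_mul_left hpos h4
    rw [h5]
    exact Dvd.intro _ rfl
  obtain ⟨n, hn⟩ := P.isPGroup'.exists_card_eq
  rw [hn]
  exact ((Nat.Prime.coprime_iff_not_dvd hp).mpr hnd).symm.pow_right n

end Cfsg.Agent.Lib.Helper15
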